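import Cfsg.Agent.H120.Cyc.Pair
import Cfsg.Agent.TitsThree.KExcRT
import Cfsg.Agent.AGraded.Hom
import Cfsg.Agent.H135.KTwoB
import Cfsg.Agent.S1037
import Cfsg.Agent.S1030

/-!
# Chevalley groups: noncyclic Sylow `p`-subgroups for `p ∣ q (q ^ 2 - 1)`
-/

set_option autoImplicit false
set_option linter.unusedSectionVars false

namespace Cfsg.Agent.H120.CycExc

open Matrix Subgroup Cfsg.Lie Cfsg.Agent.ChevalleyStructure.Elts Cfsg.Agent.TitsThree.KExcBase Cfsg.Agent.TitsThree.KExcRT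
  Cfsg.Agent.H123.SpNC Cfsg.Agent.AGraded

universe u

variable {D : ChevalleyDatum} {F : Type u} [Field F]

/-- the homomorphism of a root -/
theorem exists_phi (hD : InList D) {r : ℕ} (hr : r < D.nroots) :
    ∃ φ : SpecialLinearGroup (Fin 2) F →* ↥(D.group F),
      (∀ a, ((φ (uu a) : ↥(D.group F)) : GL D.Idx F) = xG hD r a) ∧
      (∀ a, ((φ (vv a) : ↥(D.group F)) : GL D.Idx F) = xG hD (D.neg r) a) ∧
      (∀ K : Subgroup (GL D.Idx F), (∀ a, xG hD r a ∈ K) → (∀ a, xG hD (D.neg r) a ∈ K) → ∀ g, ((φ g : ↥(D.group F)) : GL D.Idx F) ∈ K) := by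
  obtain ⟨φ, hφ, hφ'⟩ := Cfsg.Agent.S1030.result (F := F) D hD r hr
  have hK : ∀ K : Subgroup (GL D.Idx F), (∀ a, xG hD r a ∈ K) → (∀ a, xG hD (D.neg r) a ∈ K) → ∀ g, φ g ∈ K := by
    intro K h1 h2 g
    have h3 : φ g ∈ D.rootSubgroup F r ⊔ D.rootSubgroup F (D.neg r) := by
      rw [← hφ]; exact ⟨g, rfl⟩
    refine (sup_le ?_ ?_ : D.rootSubgroup F r ⊔ D.rootSubgroup F (D.neg r) ≤ K) h3
    · refine (Subgroup.closure_le K).2 ?_
      rintro g ⟨t, ht⟩
      have : g = xG hD r t := Units.ext ht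
      rw [this]
      exact h1 t
    · refine (Subgroup.closure_le K).2 ?_
      rintro g ⟨t, ht⟩
      have : g = xG hD (D.neg r) t := Units.ext ht
      rw [this]
      exact h2 t
  refine ⟨φ.codRestrict (D.group F) (hK (D.group F) (fun a => xG_mem_group hD r a)
    (fun a => xG_mem_group hD (D.neg r) a)), ?_, ?_, ?_⟩
  · intro a
    exact Units.ext ((hφ' (uu a) a).1 rfl)
  · intro a
    exact Units.ext ((hφ' (vv a) a).2 rfl)
  · intro K h1 h2 g
    exact hK K h1 h2 g

/-- a positive root element is not a negative root element -/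
theorem pos_ne_neg (hD : InList D) {r : ℕ} (h1 : D.IsPosRoot r) (h2 : D.IsNegRoot (D.neg r)) {a b : F} (ha : a ≠ 0) :
    xG hD r a ≠ xG hD (D.neg r) b := by
  intro h
  have h3 : xG hD r a ∈ D.borelSubgroup F ⊓ D.negUnipotent F := by
    refine ⟨?_, ?_⟩
    · exact (le_sup_left : D.posUnipotent F ≤ D.borelSubgroup F) (Subgroup.subset_closure ⟨r, a, h1, rfl⟩)
    · rw [h]
      exact Subgroup.subset_closure ⟨D.neg r, b, h2, rfl⟩
  rw [(Cfsg.Agent.S1037.result (F := F) D hD).1, Subgroup.mem_bot] at h3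
  exact ha ((xG_eq_one_iff hD h1.1 a).1 h3)

/-- the check for a pair of roots -/
def PairChk (D : ChevalleyDatum) (r s : ℕ) : Prop :=
  (D.IsPosRoot r ∧ D.IsNegRoot (D.neg r)) ∧ (D.IsPosRoot s ∧ D.IsNegRoot (D.neg s)) ∧
  (∀ r' ∈ [r, D.neg r], ∀ s' ∈ [s, D.neg s], s' ≠ r' ∧ s' ≠ D.neg r' ∧ D.commTerms r' s' = [])

instance (D : ChevalleyDatum) (r s : ℕ) : Decidable (PairChk D r s) := by
  unfold PairChk; infer_instance

/-- **Noncyclic Sylow `p`-subgroups for `p ∣ q (q ^ 2 - 1)`.** -/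
theorem nc_two (hD : InList D) [Fintype F] {p : ℕ} [Fact p.Prime] (hp2 : p ≠ 2)
    (hd : p ∣ Fintype.card F * (Fintype.card F ^ 2 - 1)) {r s : ℕ} (h : PairChk D r s) : NC p ↥(D.group F) := by
  obtain ⟨⟨hr, hr'⟩, ⟨hs, hs'⟩, hrs⟩ := h
  obtain ⟨φ, hφ1, hφ2, hφ3⟩ := exists_phi (F := F) hD hr.1
  obtain ⟨ψ, hψ1, hψ2, hψ3⟩ := exists_phi (F := F) hD hs.1
  have hcomm : ∀ r' ∈ [r, D.neg r], ∀ s' ∈ [s, D.neg s], ∀ a b : F, xG hD r' a * xG hD s' b = xG hD s' b * xG hD r' a := by
    intro r' hr1 s' hs1 a b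
    obtain ⟨h1, h2, h3⟩ := hrs r' hr1 s' hs1
    have hr2 : r' < D.nroots := by
      rcases List.mem_cons.1 hr1 with rfl | hr1
      · exact hr.1
      · rw [List.mem_singleton.1 hr1]; exact hr'.1
    have hs2 : s' < D.nroots := by
      rcases List.mem_cons.1 hs1 with rfl | hs1
      · exact hs.1
      · rw [List.mem_singleton.1 hs1]; exact hs'.1
    exact comm_nil hD hr2 hs2 h1 h2 h3 a b
  have key : ∀ s' ∈ [s, D.neg s], ∀ (b : F) x, ((φ x : ↥(D.group F)) : GL D.Idx F) * xG hD s' b =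
      xG hD s' b * ((φ x : ↥(D.group F)) : GL D.Idx F) := by
    intro s' hs1 b x
    have h1 := hφ3 (Subgroup.centralizer {xG hD s' b}) (fun a => by
      rw [Subgroup.mem_centralizer_iff]
      rintro y rfl
      exact (hcomm r (by simp) s' hs1 a b).symm) (fun a => by
      rw [Subgroup.mem_centralizer_iff]
      rintro y rfl
      exact (hcomm (D.neg r) (by simp) s' hs1 a b).symm) x
    rw [Subgroup.mem_centralizer_iff] at h1
    exact (h1 _ rfl).symm
  have hc : ∀ x y, φ x * ψ y = ψ y * φ x := by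
    intro x y
    have h1 := hψ3 (Subgroup.centralizer {((φ x : ↥(D.group F)) : GL D.Idx F)}) (fun a => by
      rw [Subgroup.mem_centralizer_iff]
      rintro z rfl
      exact key s (by simp) a x) (fun a => by
      rw [Subgroup.mem_centralizer_iff]
      rintro z rfl
      exact key (D.neg s) (by simp) a x) y
    rw [Subgroup.mem_centralizer_iff] at h1
    exact Subtype.ext (h1 _ rfl)
  have hone : ∀ {t : ℕ}, D.IsPosRoot t → D.IsNegRoot (D.neg t) → ∀ {χ : SpecialLinearGroup (Fin 2) F →* ↥(D.group F)},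
      (∀ a, ((χ (uu a) : ↥(D.group F)) : GL D.Idx F) = xG hD t a) →
      (∀ a, ((χ (vv a) : ↥(D.group F)) : GL D.Idx F) = xG hD (D.neg t) a) → ∃ x, x ^ p = 1 ∧ x ∉ cc χ := by
    intro t ht ht' χ h1 h2
    refine exists_two hp2 hd ?_ ?_
    · intro h3
      have h4 := congrArg Subtype.val h3
      rw [h1, h2] at h4
      exact pos_ne_neg hD ht ht' one_ne_zero h4
    · intro h3
      have h4 := congrArg Subtype.val (eq_inv_of_mul_eq_one_left h3)
      rw [InvMemClass.coe_inv, h1, h2] at h4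
      have h5 : (xG hD (D.neg t) (1 : F))⁻¹ = xG hD (D.neg t) (-1) := by
        rw [inv_eq_iff_mul_eq_one, xG_add, add_neg_cancel, xG_zero]
      rw [h5] at h4
      exact pos_ne_neg hD ht ht' one_ne_zero h4
  exact nc_of_two hc (hone hr hr' hφ1 hφ2) (hone hs hs' hψ1 hψ2)

theorem chk_g2 : PairChk chevG2 6 9 := by decide +kernel
theorem chk_f4 : PairChk chevF4 33 25 := by decide +kernel
theorem chk_e6 : PairChk chevE6 56 46 := by decide +kernel
theorem chk_e7 : PairChk chevE7 93 78 := by decide +kernel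
theorem chk_e8 : PairChk chevE8 162 141 := by decide +kernel

/-! ### `SL₃` -/

/-- the homomorphism of a subsystem of type A₂ -/
theorem exists_pi [Finite F] (hD : InList D) {r : Fin 3 → Fin 3 → ℕ} {s : Fin 3 → Fin 3 → ℤ} (ha : RTa D r) (hb : RTb D r s)
    (hc : RTc D r) (hd : RTd s) : ∃ π : SpecialLinearGroup (Fin 3) F →* ↥(D.group F),
    ∀ i j (hij : i ≠ j) a, ((π (SpecialLinearGroup.transvection hij a) : ↥(D.group F)) : GL D.Idx F) =
      xG hD (r i j) ((s i j : F) * a) := by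
  classical
  have hS := stein (F := F) hD ha hb hc hd
  obtain ⟨π, hπ, -, -⟩ := exists_hom_core hS (by rw [Fintype.card_fin])
    fun _ _ hy hygen _ _ hφ _ _ => Cfsg.Agent.H135.KTwo.ker_eq_bot_fin hy (le_refl 2) hygen hφ
  have hmem : ∀ g, π g ∈ D.group F := by
    intro g
    refine Cfsg.Agent.LieClassical.SLGen.transvection_induction (fun g => π g ∈ D.group F) ?_ ?_ g
    · intro i j hij c
      rw [hπ i j hij]
      exact xG_mem_group hD _ _
    · intro A B hA hB
      rw [map_mul]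
      exact mul_mem hA hB
  exact ⟨π.codRestrict (D.group F) hmem, fun i j hij a => hπ i j hij a⟩

theorem pi_ne (hD : InList D) {r : Fin 3 → Fin 3 → ℕ} {s : Fin 3 → Fin 3 → ℤ} (ha : RTa D r) (hd : RTd s)
    {π : SpecialLinearGroup (Fin 3) F →* ↥(D.group F)}
    (hπ : ∀ i j (hij : i ≠ j) a, ((π (SpecialLinearGroup.transvection hij a) : ↥(D.group F)) : GL D.Idx F) =
      xG hD (r i j) ((s i j : F) * a)) {i j : Fin 3} (hij : i ≠ j) {a : F} (ha0 : a ≠ 0) :
    π (SpecialLinearGroup.transvection hij a) ≠ 1 := by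
  intro h
  have h1 := congrArg Subtype.val h
  rw [hπ i j hij] at h1
  have h2 := (xG_eq_one_iff hD (ha i j hij) _).1 h1
  rcases mul_eq_zero.1 h2 with h3 | h3
  · have h4 : ((s i j * s i j : ℤ) : F) = 1 := by rw [hd, Int.cast_one]
    rw [Int.cast_mul, h3, zero_mul] at h4
    exact zero_ne_one h4
  · exact ha0 h3

/-- the check for two commuting subsystems of type A₂ -/
def ThreeChk (D : ChevalleyDatum) (r r' : Fin 3 → Fin 3 → ℕ) : Prop :=
  ∀ i j, i ≠ j → ∀ k l, k ≠ l → r' k l ≠ r i j ∧ r' k l ≠ D.neg (r i j) ∧ D.commTerms (r i j) (r' k l) = []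

instance (D : ChevalleyDatum) (r r' : Fin 3 → Fin 3 → ℕ) : Decidable (ThreeChk D r r') := by
  unfold ThreeChk; infer_instance

/-- **Noncyclic Sylow `p`-subgroups for `p ∣ q ^ 2 + q + 1`.** -/
theorem nc_three (hD : InList D) [Fintype F] {p : ℕ} [Fact p.Prime] (hp3 : p ≠ 3)
    (hdv : p ∣ Fintype.card F ^ 2 + Fintype.card F + 1) {r r' : Fin 3 → Fin 3 → ℕ} {s s' : Fin 3 → Fin 3 → ℤ}
    (ha : RTa D r) (hb : RTb D r s) (hc : RTc D r) (hd : RTd s) (ha' : RTa D r') (hb' : RTb D r' s') (hc' : RTc D r')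
    (hd' : RTd s') (h : ThreeChk D r r') : NC p ↥(D.group F) := by
  classical
  obtain ⟨φ, hφ⟩ := exists_pi (F := F) hD ha hb hc hd
  obtain ⟨ψ, hψ⟩ := exists_pi (F := F) hD ha' hb' hc' hd'
  have hnc : ∀ {r : Fin 3 → Fin 3 → ℕ} {s : Fin 3 → Fin 3 → ℤ} (_ : RTa D r) (_ : RTd s)
      {π : SpecialLinearGroup (Fin 3) F →* ↥(D.group F)}
      (_ : ∀ i j (hij : i ≠ j) a, ((π (SpecialLinearGroup.transvection hij a) : ↥(D.group F)) : GL D.Idx F) =
        xG hD (r i j) ((s i j : F) * a)), ∃ x, x ^ p = 1 ∧ x ∉ cc π := by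
    intro r s ha hd π hπ
    refine exists_three hp3 hdv ?_
    have h01 : (0 : Fin 3) ≠ 1 := by decide
    have h12 : (1 : Fin 3) ≠ 2 := by decide
    have h02 : (0 : Fin 3) ≠ 2 := by decide
    by_contra hcon
    push Not at hcon
    have h1 := hcon (SpecialLinearGroup.transvection h01 1) (SpecialLinearGroup.transvection h12 1)
    rw [← map_mul, ← map_mul] at h1
    have h2 : SpecialLinearGroup.transvection h01 (1 : F) * SpecialLinearGroup.transvection h12 1 =
        SpecialLinearGroup.transvection h02 1 *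
          (SpecialLinearGroup.transvection h12 1 * SpecialLinearGroup.transvection h01 1) := by
      apply Subtype.ext
      show (1 + Matrix.single 0 1 (1 : F)) * (1 + Matrix.single 1 2 1) =
        (1 + Matrix.single 0 2 1) * ((1 + Matrix.single 1 2 1) * (1 + Matrix.single 0 1 1))
      ext i j
      fin_cases i <;> fin_cases j <;>
        simp [Matrix.mul_apply, Fin.sum_univ_three, Matrix.one_apply, Matrix.single_apply, Matrix.add_apply]
    rw [h2, map_mul] at h1
    exact pi_ne hD ha hd hπ h02 one_ne_zero (by simpa using h1)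
  have hcomm : ∀ x y, φ x * ψ y = ψ y * φ x := by
    intro x
    refine Cfsg.Agent.LieClassical.SLGen.transvection_induction (fun x => ∀ y, φ x * ψ y = ψ y * φ x) ?_ ?_ x
    · intro i j hij a y
      refine Cfsg.Agent.LieClassical.SLGen.transvection_induction
        (fun y => φ (SpecialLinearGroup.transvection hij a) * ψ y = ψ y * φ (SpecialLinearGroup.transvection hij a)) ?_ ?_ y
      · intro k l hkl b
        apply Subtype.ext
        show ((φ _ : ↥(D.group F)) : GL D.Idx F) * ((ψ _ : ↥(D.group F)) : GL D.Idx F) = _ * _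
        rw [hφ, hψ]
        obtain ⟨h1, h2, h3⟩ := h i j hij k l hkl
        exact comm_nil hD (ha i j hij) (ha' k l hkl) h1 h2 h3 _ _
      · intro A B hA hB
        rw [map_mul, ← mul_assoc, hA, mul_assoc, hB, mul_assoc]
    · intro A B hA hB y
      rw [map_mul, mul_assoc, hB, ← mul_assoc, hA, mul_assoc]
  exact nc_of_two hcomm (hnc ha hd hφ) (hnc ha' hd' hψ)

end Cfsg.Agent.H120.CycExc
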