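import Cfsg.Agent.H120.Cyc.DegBase
import Cfsg.Agent.H120.Common

/-!
# Minimal degrees of `E₆(q)`, `E₇(q)`, `E₈(q)` (weak bounds)
-/

set_option autoImplicit false
set_option linter.unusedSectionVars false

namespace Cfsg.Agent.H120.CycExc

open Module Cfsg.Lie Cfsg.Agent.ChevalleyStructure.Elts Cfsg.Agent.ChevalleyStructure.RootVec
  Cfsg.Agent.ChevalleyStructure.RootVecTab Cfsg.Agent.ChevalleyStructure.CoxeterGeomTypes
  Cfsg.Agent.Nodes.RGDChev Cfsg.Agent.KFacts.En.Roots Cfsg.Agent.H120.ChevSys Cfsg.Agent.H120.LevMath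
  Cfsg.Agent.OddHalf.SL.Defs Cfsg.Agent.H122 Cfsg.Agent.H120.Common

universe u

/-- the check -/
def EChk (D : ChevalleyDatum) (l : ℕ) (r s : ℕ) (L : List ℕ) (n : ℕ) : Prop :=
  r < D.nroots ∧ s < D.nroots ∧ bf D l (vec D l r) (vec D l s) = 1 ∧ L.length = n + 1 ∧ L.Nodup ∧
  (∀ a ∈ L, a < D.nroots) ∧ (∀ a ∈ L, bf D l (vec D l a) (vec D l r) = 1) ∧
  (∀ a ∈ L, ∀ b ∈ L, 0 ≤ bf D l (vec D l a) (vec D l b))

instance (D : ChevalleyDatum) (l r s : ℕ) (L : List ℕ) (n : ℕ) : Decidable (EChk D l r s L n) := by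
  unfold EChk; infer_instance

variable {D : ChevalleyDatum} {l : ℕ} {M : CoxeterMatrix (Fin l)}

theorem minDeg_E (hp : Ty D l M) (F : Type u) [Field F] [Fintype F] [IsSimpleGroup ↥(D.group F)] {r s : ℕ} {L : List ℕ}
    {n : ℕ} (h : EChk D l r s L n) : MinDeg ↥(D.group F) (Fintype.card F ^ n * (Fintype.card F ^ 2 - 1)) := by
  classical
  obtain ⟨hr, hs, hrs, hlen, hnd, hlt, h1, h2⟩ := h
  have R := rootsZ hp []
  rw [PhiZ_nil] at R
  refine minDeg_sys R (X := fun v a => XX hp v a) (fun M _ _ _ ρ => sys hp ρ) (vec_mem hr) (vec_mem hs) hrs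
    (L.map (vec D l)).toFinset ?_ ?_ ?_ ?_ ⟨1, ?_⟩
  · intro a ha
    rw [List.mem_toFinset, List.mem_map] at ha
    obtain ⟨i, hi, rfl⟩ := ha
    exact vec_mem (hlt i hi)
  · intro a ha
    rw [List.mem_toFinset, List.mem_map] at ha
    obtain ⟨i, hi, rfl⟩ := ha
    exact h1 i hi
  · intro a ha b hb
    rw [List.mem_toFinset, List.mem_map] at ha hb
    obtain ⟨i, hi, rfl⟩ := ha
    obtain ⟨j, hj, rfl⟩ := hb
    exact h2 i hi j hj
  · rw [List.toFinset_card_of_nodup, List.length_map, hlen]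
    refine (List.nodup_map_iff_inj_on hnd).2 ?_
    intro a ha b hb hab
    exact vec_inj hp.ty (hlt a ha) (hlt b hb) hab
  · intro h3
    have h4 := congrArg Subtype.val h3
    have h5 : XG hp (vec D l r) (1 : F) = 1 := h4
    rw [XG_vec hp hr] at h5
    exact one_ne_zero ((xG_eq_one_iff hp.ty.inList hr _).1 h5)

theorem echk6 : EChk chevE6 6 71 70 [54, 55, 63, 64, 65, 66, 67, 68, 69, 70] 9 := by decide +kernel

theorem echk7 : EChk chevE7 7 125 124 [113, 114, 115, 116, 117, 118, 119, 120, 121, 122, 123, 124] 11 := by decide +kernel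

theorem echk8 : EChk chevE8 8 239 238 [216, 217, 218, 220, 221, 222, 223, 224, 225, 227, 228, 229, 230, 231, 232, 233,
    234, 235, 236, 237, 238] 20 := by decide +kernel

end Cfsg.Agent.H120.CycExc
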