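import Mathlib

/-!
# The `p`-part of `∏ (q ^ d - 1)`

`fold` : with `e` the order of `q` modulo `p`; `bound` : the `p`-part is at most `q ^ M`.
-/

set_option autoImplicit false

namespace Cfsg.Agent.H120.CycExc.Num

variable {p q : ℕ}

theorem dvd_iff (hq : 1 ≤ q) (d : ℕ) : p ∣ q ^ d - 1 ↔ orderOf (q : ZMod p) ∣ d := by
  rw [orderOf_dvd_iff_pow_eq_one, ← ZMod.natCast_eq_zero_iff, Nat.cast_sub (Nat.one_le_pow _ _ hq), Nat.cast_pow,
    Nat.cast_one, sub_eq_zero]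

/-- a factor prime to `p` -/
theorem step0 (hp : p.Prime) {a R S : ℕ} (h1 : ¬ p ∣ S) (h : p ^ a ∣ R * S) : p ^ a ∣ R :=
  (((Nat.Prime.coprime_iff_not_dvd hp).2 h1).pow_left a).dvd_of_dvd_mul_right h

/-- one factor -/
theorem step (hp : p.Prime) (hq : 1 ≤ q) {e m a R : ℕ} (h1 : p ∣ q ^ e - 1) (hm : ¬ p ∣ m)
    (h : p ^ a ∣ R * (q ^ (e * m) - 1)) : p ^ a ∣ R * (q ^ e - 1) := by
  obtain ⟨x, hx⟩ : ∃ x, q ^ e = x + 1 := ⟨q ^ e - 1, by have := Nat.one_le_pow e q hq; omega⟩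
  have h2 := geom_sum_mul_add x m
  rw [pow_mul, hx, ← h2, Nat.add_sub_cancel] at h
  rw [hx, Nat.add_sub_cancel] at h1 ⊢
  rw [mul_comm (∑ i ∈ Finset.range m, (x + 1) ^ i), ← mul_assoc] at h
  refine step0 hp ?_ h
  intro h3
  apply hm
  rw [← ZMod.natCast_eq_zero_iff] at h1 h3 ⊢
  push_cast at h3
  rw [h1] at h3
  simpa using h3

theorem fold (hp : p.Prime) (hq : 1 ≤ q) {a : ℕ} (l : List ℕ) :
    ∀ (R : ℕ) (_ : ∀ d ∈ l, orderOf (q : ZMod p) ∣ d → ¬ p ∣ d / orderOf (q : ZMod p))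
      (_ : p ^ a ∣ R * (l.map fun d => q ^ d - 1).prod),
      p ^ a ∣ R * (q ^ orderOf (q : ZMod p) - 1) ^ (l.countP fun d => decide (orderOf (q : ZMod p) ∣ d)) := by
  induction l with
  | nil =>
    intro R _ h
    simpa using h
  | cons d l ih =>
    intro R hl h
    rw [List.map_cons, List.prod_cons, ← mul_assoc] at h
    have hl' : ∀ d ∈ l, orderOf (q : ZMod p) ∣ d → ¬ p ∣ d / orderOf (q : ZMod p) :=
      fun d hd => hl d (List.mem_cons_of_mem _ hd)
    by_cases hd : orderOf (q : ZMod p) ∣ d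
    · have h1 : p ^ a ∣ (R * (l.map fun d => q ^ d - 1).prod) * (q ^ (orderOf (q : ZMod p) * (d / orderOf (q : ZMod p))) - 1) := by
        rw [Nat.mul_div_cancel' hd]
        convert h using 1
        ring
      have h2 := step hp hq ((dvd_iff hq _).2 dvd_rfl) (hl d List.mem_cons_self hd) h1
      have h3 : p ^ a ∣ (R * (q ^ orderOf (q : ZMod p) - 1)) * (l.map fun d => q ^ d - 1).prod := by
        convert h2 using 1
        ring
      have h4 := ih _ hl' h3
      rw [List.countP_cons_of_pos (by simpa using hd), pow_succ]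
      convert h4 using 1
      ring
    · have h1 : p ^ a ∣ (R * (l.map fun d => q ^ d - 1).prod) * (q ^ d - 1) := by
        convert h using 1
        ring
      have h2 := step0 hp (fun h => hd ((dvd_iff hq d).1 h)) h1
      rw [List.countP_cons_of_neg (by simpa using hd)]
      exact ih _ hl' h2

/-- the power `X ^ k` -/
theorem step_pow (hp : p.Prime) {a R S X k : ℕ} (h1 : ¬ p ∣ S) (h : p ^ a ∣ R * (S * X) ^ k) : p ^ a ∣ R * X ^ k := by
  have h2 : p ^ a ∣ (R * X ^ k) * S ^ k := by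
    convert h using 1
    rw [mul_pow]
    ring
  exact step0 hp (fun h3 => h1 (hp.dvd_of_dvd_pow h3)) h2

theorem half (hp : p.Prime) (hq : 1 ≤ q) {a R k f : ℕ} (hf : 0 < f) (he : orderOf (q : ZMod p) = 2 * f)
    (h : p ^ a ∣ R * (q ^ (2 * f) - 1) ^ k) : p ^ a ∣ R * (q ^ f + 1) ^ k := by
  have e1 : q ^ (2 * f) - 1 = (q ^ f - 1) * (q ^ f + 1) := by
    obtain ⟨x, hx⟩ : ∃ x, q ^ f = x + 1 := ⟨q ^ f - 1, by have := Nat.one_le_pow f q hq; omega⟩
    rw [two_mul, pow_add, hx, Nat.add_sub_cancel]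
    have : (x + 1) * (x + 1) = x * (x + 1 + 1) + 1 := by ring
    rw [this, Nat.add_sub_cancel]
  rw [e1] at h
  refine step_pow hp ?_ h
  intro h3
  rw [dvd_iff hq, he] at h3
  have := Nat.le_of_dvd hf h3
  omega

/-- the exponent of the bound -/
def expo (e k : ℕ) : ℕ := if e % 2 = 0 then (e / 2 + 1) * k else e * k

/-- the check -/
def chk (l : List ℕ) (M e : ℕ) : Bool :=
  decide (expo e (l.countP fun d => decide (e ∣ d)) ≤ M) &&
    l.all fun d => !(decide (e ∣ d)) || (decide (d / e ≠ 0) && decide (d / e ≤ 10) && decide (d / e ≠ 7) &&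
      (decide (e ≠ 4) || decide (d / e < 5)))

theorem not_dvd_of (hp : p.Prime) (hp5 : 5 ≤ p) (hpq : ¬ p ∣ q) (he3 : 3 ≤ orderOf (q : ZMod p)) {m : ℕ} (h0 : m ≠ 0)
    (h10 : m ≤ 10) (h7 : m ≠ 7) (h4 : orderOf (q : ZMod p) ≠ 4 ∨ m < 5) : ¬ p ∣ m := by
  intro h
  have hle := Nat.le_of_dvd (Nat.pos_of_ne_zero h0) h
  have : Fact p.Prime := ⟨hp⟩
  have hq0 : (q : ZMod p) ≠ 0 := by
    rwa [Ne, ZMod.natCast_eq_zero_iff]
  have h1 := ZMod.orderOf_dvd_card_sub_one hq0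
  have h2 := Nat.le_of_dvd (by omega) h1
  have hp10 : p ≤ 10 := by omega
  generalize orderOf (q : ZMod p) = e at *
  interval_cases p
  · rcases h4 with h4 | h4
    · have : e = 3 ∨ e = 4 := by omega
      rcases this with rfl | rfl
      · omega
      · exact h4 rfl
    · omega
  · exact absurd hp (by norm_num)
  · obtain ⟨k, rfl⟩ := h
    omega
  · exact absurd hp (by norm_num)
  · exact absurd hp (by norm_num)
  · exact absurd hp (by norm_num)

theorem le_pow_succ (hq : 2 ≤ q) (f : ℕ) : q ^ f + 1 ≤ q ^ (f + 1) := by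
  have h1 := Nat.one_le_pow f q (by omega)
  rw [pow_succ]
  nlinarith

/-- **The bound.** -/
theorem bound (hp : p.Prime) (hp5 : 5 ≤ p) (hpq : ¬ p ∣ q) (hq : 2 ≤ q) (he3 : 3 ≤ orderOf (q : ZMod p)) {l : List ℕ}
    {M a : ℕ} (hchk : chk l M (orderOf (q : ZMod p)) = true) (h : p ^ a ∣ (l.map fun d => q ^ d - 1).prod) :
    p ^ a ≤ q ^ M := by
  rw [chk, Bool.and_eq_true, List.all_eq_true, decide_eq_true_eq] at hchk
  obtain ⟨hM, hl⟩ := hchk
  have hq1 : 1 ≤ q := by omega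
  have h0 : ∀ d ∈ l, orderOf (q : ZMod p) ∣ d → ¬ p ∣ d / orderOf (q : ZMod p) := by
    intro d hd hed
    have h2 := hl d hd
    simp only [Bool.and_eq_true, decide_eq_true_eq, Bool.or_eq_true, Bool.not_eq_true', decide_eq_false_iff_not] at h2
    rcases h2 with h2 | h2
    · exact absurd hed h2
    · exact not_dvd_of hp hp5 hpq he3 h2.1.1.1 h2.1.1.2 h2.1.2 h2.2
  have h1 := fold (q := q) hp hq1 l 1 h0 (by rwa [one_mul])
  refine le_trans ?_ (Nat.pow_le_pow_right (by omega) hM)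
  unfold expo
  split_ifs with hev
  · obtain ⟨f, hf⟩ : ∃ f, orderOf (q : ZMod p) = 2 * f := ⟨orderOf (q : ZMod p) / 2, by omega⟩
    rw [hf] at h1
    have h2 := half hp (by omega) (by omega) hf h1
    rw [one_mul] at h2
    refine (Nat.le_of_dvd (by positivity) h2).trans ?_
    rw [hf, Nat.mul_div_cancel_left f (by norm_num), pow_mul]
    exact Nat.pow_le_pow_left (le_pow_succ hq f) _
  · rw [one_mul] at h1
    have h3 : 2 ^ 3 ≤ q ^ orderOf (q : ZMod p) :=
      (Nat.pow_le_pow_left hq 3).trans (Nat.pow_le_pow_right (by omega) he3)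
    refine (Nat.le_of_dvd (Nat.pow_pos (by omega)) h1).trans ?_
    rw [pow_mul]
    exact Nat.pow_le_pow_left (Nat.sub_le _ _) _

/-- the bound for all possible orders -/
theorem bound_all (hp : p.Prime) (hp5 : 5 ≤ p) (hpq : ¬ p ∣ q) (hq : 2 ≤ q) (he3 : 3 ≤ orderOf (q : ZMod p)) {l : List ℕ}
    {M N a : ℕ} (hl : ∀ d ∈ l, d ≠ 0 ∧ d ≤ N) (hchk : orderOf (q : ZMod p) ≤ N → chk l M (orderOf (q : ZMod p)) = true)
    (h : p ^ a ∣ (l.map fun d => q ^ d - 1).prod) : p ^ a ≤ q ^ M := by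
  rcases Nat.lt_or_ge N (orderOf (q : ZMod p)) with h1 | h1
  · have h2 : ∀ d ∈ l, ¬ orderOf (q : ZMod p) ∣ d := by
      intro d hd hed
      have := Nat.le_of_dvd (Nat.pos_of_ne_zero (hl d hd).1) hed
      have := (hl d hd).2
      omega
    have hq1 : 1 ≤ q := by omega
    have h3 := fold (q := q) hp hq1 l 1 (fun d hd hed => absurd hed (h2 d hd)) (by rwa [one_mul])
    have h4 : (l.countP fun d => decide (orderOf (q : ZMod p) ∣ d)) = 0 := by
      rw [List.countP_eq_zero]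
      intro d hd
      simpa using h2 d hd
    rw [h4, pow_zero, one_mul] at h3
    exact (Nat.le_of_dvd one_pos h3).trans (Nat.one_le_pow _ _ (by omega))
  · exact bound hp hp5 hpq hq he3 (hchk h1) h

/-- the order of `q` modulo `p` is at least three -/
theorem three_le (hp : p.Prime) (hq : 1 ≤ q) (hd : ¬ p ∣ q * (q ^ 2 - 1)) : ¬ p ∣ q ∧ 3 ≤ orderOf (q : ZMod p) := by
  have h1 : ¬ p ∣ q := fun h => hd (h.mul_right _)
  have h2 : ¬ p ∣ q ^ 2 - 1 := fun h => hd (h.mul_left _)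
  refine ⟨h1, ?_⟩
  rw [dvd_iff hq] at h2
  have : Fact p.Prime := ⟨hp⟩
  have hq0 : (q : ZMod p) ≠ 0 := by rwa [Ne, ZMod.natCast_eq_zero_iff]
  have h3 : 0 < orderOf (q : ZMod p) := by
    rw [orderOf_pos_iff, isOfFinOrder_iff_pow_eq_one]
    exact ⟨p - 1, by have := hp.two_le; omega, ZMod.pow_card_sub_one_eq_one hq0⟩
  by_contra hcon
  apply h2
  have : orderOf (q : ZMod p) = 1 ∨ orderOf (q : ZMod p) = 2 := by omega
  rcases this with h | h <;> rw [h] <;> norm_num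

/-- an odd prime not dividing `q (q ^ 2 - 1)` is at least five -/
theorem five_le (hp : p.Prime) (hp2 : p ≠ 2) (hq : 1 ≤ q) (hd : ¬ p ∣ q * (q ^ 2 - 1)) : 5 ≤ p := by
  by_contra hcon
  have h2 := hp.two_le
  interval_cases p
  · exact hp2 rfl
  · apply hd
    have h3 : q % 3 = 0 ∨ q % 3 = 1 ∨ q % 3 = 2 := by omega
    rcases h3 with h | h
    · exact (Nat.dvd_of_mod_eq_zero h).mul_right _
    · refine Dvd.dvd.mul_left ?_ _
      refine (Nat.modEq_iff_dvd' (Nat.one_le_pow 2 q hq)).1 ?_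
      show 1 % 3 = q ^ 2 % 3
      rw [Nat.pow_mod]
      rcases h with h | h <;> rw [h]
  · exact absurd hp (by norm_num)

end Cfsg.Agent.H120.CycExc.Num
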