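import Cfsg.Agent.H123.NCBase
import Cfsg.Agent.GTwoOdd.SLNormal
import Cfsg.Agent.ClassicalGeometry.PSL2Basic
import Cfsg.Agent.S2540
import Cfsg.Agent.H953.Index

/-!
# Commuting images of `SL₂(q)` and noncyclic Sylow subgroups

`cc φ` : the elements whose image commutes with the range; `exists_two` : an element of order `p` of `SL₂(q)` outside
`cc φ`; `nc_of_two` : two commuting homomorphisms with such elements.
-/

set_option autoImplicit false
set_option linter.unusedSectionVars false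

namespace Cfsg.Agent.H120.CycExc

open Matrix Subgroup Cfsg.Agent.H123.SpNC

section cc

variable {H G : Type*} [Group H] [Group G]

/-- the elements whose image commutes with the range -/
def cc (φ : H →* G) : Subgroup H where
  carrier := {x | ∀ y, φ x * φ y = φ y * φ x}
  one_mem' := fun y => by rw [map_one, one_mul, mul_one]
  mul_mem' := by
    intro a b ha hb y
    rw [map_mul, mul_assoc, hb y, ← mul_assoc, ha y, mul_assoc]
  inv_mem' := by
    intro a ha y
    rw [map_inv]
    have h : φ a * φ y = φ y * φ a := ha y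
    calc (φ a)⁻¹ * φ y = (φ a)⁻¹ * (φ y * φ a) * (φ a)⁻¹ := by group
      _ = (φ a)⁻¹ * (φ a * φ y) * (φ a)⁻¹ := by rw [h]
      _ = φ y * (φ a)⁻¹ := by group

theorem mem_cc {φ : H →* G} {x : H} : x ∈ cc φ ↔ ∀ y, φ x * φ y = φ y * φ x := Iff.rfl

theorem cc_normal (φ : H →* G) : (cc φ).Normal := by
  constructor
  intro x hx g y
  have h := (mem_cc.1 hx) (g⁻¹ * y * g)
  rw [map_mul, map_mul, map_inv] at h
  rw [map_mul, map_mul, map_inv]
  calc φ g * φ x * (φ g)⁻¹ * φ y = φ g * (φ x * ((φ g)⁻¹ * φ y * φ g)) * (φ g)⁻¹ := by group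
    _ = φ g * (((φ g)⁻¹ * φ y * φ g) * φ x) * (φ g)⁻¹ := by rw [h]
    _ = φ y * (φ g * φ x * (φ g)⁻¹) := by group

theorem ne_one_of_notMem {φ : H →* G} {x : H} (hx : x ∉ cc φ) : φ x ≠ 1 := by
  intro h
  exact hx fun y => by rw [h, one_mul, mul_one]

/-- two commuting homomorphisms -/
theorem nc_of_two {H' : Type*} [Group H'] [Finite G] {p : ℕ} [hp : Fact p.Prime] {φ : H →* G} {ψ : H' →* G}
    (hc : ∀ x y, φ x * ψ y = ψ y * φ x) (h1 : ∃ x, x ^ p = 1 ∧ x ∉ cc φ) (h2 : ∃ y, y ^ p = 1 ∧ y ∉ cc ψ) : NC p G := by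
  obtain ⟨x, hx, hxc⟩ := h1
  obtain ⟨y, hy, hyc⟩ := h2
  have ho : orderOf (ψ y) = p := orderOf_eq_prime (by rw [← map_pow, hy, map_one]) (ne_one_of_notMem hyc)
  refine nc_of_pair ho (b := φ x) (by rw [← map_pow, hx, map_one]) (hc x y).symm ?_
  rintro ⟨i, hi⟩
  apply hxc
  intro z
  have hi' : ψ y ^ i = φ x := hi
  rw [← hi']
  exact (((show Commute (φ z) (ψ y) from hc z y).zpow_right i).eq).symm

end cc

section two

variable {F : Type*} [Field F]

/-- upper unipotent matrices -/
def uu (t : F) : SpecialLinearGroup (Fin 2) F := ⟨!![1, t; 0, 1], by simp [Matrix.det_fin_two]⟩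

/-- lower unipotent matrices -/
def vv (t : F) : SpecialLinearGroup (Fin 2) F := ⟨!![1, 0; t, 1], by simp [Matrix.det_fin_two]⟩

theorem uu_add (s t : F) : uu (s + t) = uu s * uu t := by
  apply Subtype.ext
  show !![1, s + t; 0, 1] = !![1, s; 0, 1] * !![1, t; 0, 1]
  rw [Matrix.mul_fin_two]
  congr 1
  ext i j
  fin_cases i <;> fin_cases j <;> simp [add_comm]

theorem uu_zero : uu (0 : F) = 1 := by
  apply Subtype.ext
  show !![1, (0 : F); 0, 1] = 1
  rw [Matrix.one_fin_two]

theorem uu_pow (t : F) (n : ℕ) : uu t ^ n = uu (n * t) := by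
  induction n with
  | zero => rw [pow_zero, Nat.cast_zero, zero_mul, uu_zero]
  | succ n ih =>
    rw [pow_succ, ih, ← uu_add]
    congr 1
    push_cast
    ring

variable {G : Type*} [Group G] {φ : SpecialLinearGroup (Fin 2) F →* G}

theorem uu_notMem (h1 : φ (uu 1) ≠ φ (vv (-1))) : uu 1 ∉ cc φ := by
  intro h
  apply h1
  have e : (uu (1 : F) * vv (-1) * uu 1) * uu 1 = vv (-1) * (uu 1 * vv (-1) * uu 1) := by
    apply Subtype.ext
    show (!![1, (1 : F); 0, 1] * !![1, 0; (-1 : F), 1] * !![1, 1; 0, 1]) * !![1, 1; 0, 1] =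
      !![1, 0; (-1 : F), 1] * (!![1, (1 : F); 0, 1] * !![1, 0; (-1 : F), 1] * !![1, 1; 0, 1])
    simp only [Matrix.mul_fin_two]
    congr 1
    ext i j
    fin_cases i <;> fin_cases j <;> simp
  have h2 := (mem_cc.1 h) (uu (1 : F) * vv (-1) * uu 1)
  have h3 := congrArg φ e
  rw [map_mul φ _ (uu 1), ← h2, map_mul φ (vv (-1))] at h3
  exact mul_right_cancel h3

/-- **An element of order `p` of `SL₂(q)` whose image does not commute with the range.** -/
theorem exists_two [Fintype F] {p : ℕ} [hp : Fact p.Prime] (hp2 : p ≠ 2)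
    (hd : p ∣ Fintype.card F * (Fintype.card F ^ 2 - 1)) (h1 : φ (uu 1) ≠ φ (vv (-1)))
    (h2 : φ (uu 1) * φ (vv 1) ≠ 1) : ∃ x, x ^ p = 1 ∧ x ∉ cc φ := by
  have hu := uu_notMem h1
  by_cases hpF : (p : F) = 0
  · refine ⟨uu 1, ?_, hu⟩
    rw [uu_pow, hpF, zero_mul, uu_zero]
  rcases Nat.lt_or_ge 3 (Fintype.card F) with hq | hq
  · -- `q > 3`
    obtain ⟨x, hx⟩ := exists_prime_orderOf_dvd_card' (G := SpecialLinearGroup (Fin 2) F) p
      (by rw [Cfsg.Agent.ClassicalGeometry.PSL2Basic.card_SL2]; exact hd)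
    refine ⟨x, by rw [← hx, pow_orderOf_eq_one], ?_⟩
    intro hxc
    have hN := cc_normal φ
    have hcen : x ∈ Subgroup.center (SpecialLinearGroup (Fin 2) F) := by
      by_contra hcon
      have := Cfsg.Agent.GTwoOdd.SLNormal.eq_top hq (cc φ) hxc hcon
      exact hu (this ▸ Subgroup.mem_top _)
    rw [Matrix.SpecialLinearGroup.mem_center_iff] at hcen
    obtain ⟨r, hr, hrx⟩ := hcen
    have hx2 : x ^ 2 = 1 := by
      apply Subtype.ext
      rw [pow_two]
      show (x : Matrix (Fin 2) (Fin 2) F) * (x : Matrix (Fin 2) (Fin 2) F) = 1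
      rw [Fintype.card_fin] at hr
      rw [← hrx, ← map_mul, ← pow_two, hr, map_one]
    have h3 := orderOf_dvd_of_pow_eq_one hx2
    rw [hx] at h3
    exact hp2 ((Nat.prime_dvd_prime_iff_eq hp.out Nat.prime_two).1 h3)
  · have hq1 : 1 < Fintype.card F := Fintype.one_lt_card
    have hq2 : Fintype.card F = 2 ∨ Fintype.card F = 3 := by omega
    rcases hq2 with hq2 | hq3
    · -- `q = 2`
      rw [hq2] at hd
      have hp3 : p = 3 := by
        have h3 : p ∣ 2 * 3 := hd
        rcases (Nat.Prime.dvd_mul hp.out).1 h3 with h4 | h4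
        · exact absurd ((Nat.prime_dvd_prime_iff_eq hp.out Nat.prime_two).1 h4) hp2
        · exact (Nat.prime_dvd_prime_iff_eq hp.out Nat.prime_three).1 h4
      have hF2 : (2 : F) = 0 := by
        have h4 : ((Fintype.card F : ℕ) : F) = 0 := Nat.cast_card_eq_zero F
        rw [hq2] at h4
        exact_mod_cast h4
      have hF2' : (1 : F) + 1 = 0 := by rw [one_add_one_eq_two, hF2]
      have huu : uu (1 : F) * uu 1 = 1 := by rw [← uu_add, hF2', uu_zero]
      have hvv : vv (1 : F) * vv 1 = 1 := by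
        apply Subtype.ext
        show !![1, 0; (1 : F), 1] * !![1, 0; (1 : F), 1] = 1
        rw [Matrix.mul_fin_two, Matrix.one_fin_two]
        congr 1
        ext i j
        fin_cases i <;> fin_cases j <;> simp [hF2']
      have hx3 : (uu (1 : F) * vv 1) ^ 3 = 1 := by
        apply Subtype.ext
        rw [pow_succ, pow_two]
        show ((!![1, (1 : F); 0, 1] * !![1, 0; (1 : F), 1]) * (!![1, (1 : F); 0, 1] * !![1, 0; (1 : F), 1])) *
          (!![1, (1 : F); 0, 1] * !![1, 0; (1 : F), 1]) = 1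
        simp only [Matrix.mul_fin_two]
        rw [Matrix.one_fin_two]
        congr 1
        ext i j
        fin_cases i <;> fin_cases j <;> simp [hF2']
      refine ⟨uu 1 * vv 1, by rw [hp3, hx3], ?_⟩
      intro hxc
      apply h2
      set a := φ (uu 1) with ha
      set b := φ (vv 1) with hb
      have ea : a * a = 1 := by rw [ha, ← map_mul, huu, map_one]
      have eb : b * b = 1 := by rw [hb, ← map_mul, hvv, map_one]
      have e3 : (a * b) ^ 3 = 1 := by rw [ha, hb, ← map_mul, ← map_pow, hx3, map_one]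
      have e4 : (a * b) * a = a * (a * b) := by
        have := (mem_cc.1 hxc) (uu 1)
        rwa [map_mul] at this
      have e5 : a * b * a = b := by rw [e4, ← mul_assoc, ea, one_mul]
      have e6 : b * a = a * b := by
        calc b * a = (a * b * a) * a := by rw [e5]
          _ = a * b := by rw [mul_assoc, ea, mul_one]
      have e7 : (a * b) * (a * b) = 1 := by
        calc (a * b) * (a * b) = a * (b * a) * b := by group
          _ = a * (a * b) * b := by rw [e6]
          _ = (a * a) * (b * b) := by group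
          _ = 1 := by rw [ea, eb, one_mul]
      rwa [pow_succ, pow_two, e7, one_mul] at e3
    · -- `q = 3`
      exfalso
      rw [hq3] at hd
      have hp3 : p = 3 := by
        have h3 : p ∣ 3 * 2 ^ 3 := hd
        rcases (Nat.Prime.dvd_mul hp.out).1 h3 with h4 | h4
        · exact (Nat.prime_dvd_prime_iff_eq hp.out Nat.prime_three).1 h4
        · exact absurd ((Nat.prime_dvd_prime_iff_eq hp.out Nat.prime_two).1 (hp.out.dvd_of_dvd_pow h4)) hp2
      apply hpF
      have h4 : ((Fintype.card F : ℕ) : F) = 0 := Nat.cast_card_eq_zero F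
      rw [hq3] at h4
      rw [hp3]
      exact h4

end two

section three

variable {F : Type*} [Field F] {G : Type*} [Group G] {φ : SpecialLinearGroup (Fin 3) F →* G}

/-- **An element of order `p` of `SL₃(q)` whose image does not commute with the range.** -/
theorem exists_three [Fintype F] {p : ℕ} [hp : Fact p.Prime] (hp3 : p ≠ 3)
    (hd : p ∣ Fintype.card F ^ 2 + Fintype.card F + 1) (h : ∃ x y, φ x * φ y ≠ φ y * φ x) : ∃ x, x ^ p = 1 ∧ x ∉ cc φ := by
  classical
  have hq : 1 < Fintype.card F := Fintype.one_lt_card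
  have hdvd : p ∣ Nat.card (SpecialLinearGroup (Fin 3) F) := by
    have h1 : Nat.card (SpecialLinearGroup (Fin 3) F) =
        Fintype.card F ^ 3 * ((Fintype.card F ^ 2 - 1) * (Fintype.card F ^ 3 - 1)) := by
      rw [Cfsg.Agent.H953.card_SL 3 (by norm_num)]
      simp [Finset.sum_range_succ, Finset.prod_Icc_succ_top]
    have h2 : Fintype.card F ^ 3 - 1 = (Fintype.card F - 1) * (Fintype.card F ^ 2 + Fintype.card F + 1) := by
      obtain ⟨k, hk⟩ : ∃ k, Fintype.card F = k + 1 := ⟨Fintype.card F - 1, by omega⟩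
      rw [hk]
      have e2 : (k + 1) ^ 3 = k * ((k + 1) ^ 2 + (k + 1) + 1) + 1 := by ring
      rw [Nat.add_sub_cancel, e2, Nat.add_sub_cancel]
    rw [h1, h2]
    exact Dvd.dvd.mul_left (Dvd.dvd.mul_left (Dvd.dvd.mul_left hd _) _) _
  obtain ⟨x, hx⟩ := exists_prime_orderOf_dvd_card' (G := SpecialLinearGroup (Fin 3) F) p hdvd
  refine ⟨x, by rw [← hx, pow_orderOf_eq_one], ?_⟩
  intro hxc
  have hN := cc_normal φ
  have hsimple : IsSimpleGroup (Matrix.ProjectiveSpecialLinearGroup (Fin 3) F) :=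
    Cfsg.Agent.LieClassical.SLGen.psl_isSimpleGroup (by simp)
  have hperf : commutator (SpecialLinearGroup (Fin 3) F) = ⊤ :=
    Cfsg.Agent.LieClassical.SLGen.commutator_eq_top (ι := Fin 3) (F := F) (by simp)
  rcases Cfsg.Agent.S2540.normal_dichotomy hperf hsimple (cc φ) with h1 | h1
  · have hcen := h1 hxc
    rw [Matrix.SpecialLinearGroup.mem_center_iff] at hcen
    obtain ⟨r, hr, hrx⟩ := hcen
    have hx2 : x ^ 3 = 1 := by
      apply Subtype.ext
      rw [pow_succ, pow_two]
      show (x : Matrix (Fin 3) (Fin 3) F) * (x : Matrix (Fin 3) (Fin 3) F) * (x : Matrix (Fin 3) (Fin 3) F) = 1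
      rw [Fintype.card_fin] at hr
      rw [← hrx, ← map_mul, ← map_mul, ← pow_two, ← pow_succ, hr, map_one]
    have h3 := orderOf_dvd_of_pow_eq_one hx2
    rw [hx] at h3
    exact hp3 ((Nat.prime_dvd_prime_iff_eq hp.out Nat.prime_three).1 h3)
  · obtain ⟨y, z, hyz⟩ := h
    have h2 : y ∈ cc φ := h1 ▸ Subgroup.mem_top y
    exact hyz ((mem_cc.1 h2) z)

end three

end Cfsg.Agent.H120.CycExc
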