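import Cfsg.Agent.H120.Cyc.Num
import Cfsg.Agent.H120.Cyc.Chev
import Cfsg.Agent.H120.Cyc.DegE
import Cfsg.Agent.H120.Cyc.DegF4
import Cfsg.Agent.S1055
import Cfsg.Agent.S1059
import Cfsg.Agent.S1062
import Cfsg.Agent.S1063
import Cfsg.Agent.S1064
import Cfsg.Agent.S1065

/-!
# Cyclic Sylow subgroups and degrees: the untwisted exceptional groups

`row_g2`, `row_f4`, `row_e6`, `row_e7`, `row_e8` : the rows of S2351.
-/

set_option autoImplicit false
set_option linter.unusedSectionVars false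

namespace Cfsg.Agent.H120.CycExc

open Module Cfsg.Lie Cfsg.Agent.ChevalleyStructure.Elts Cfsg.Agent.KFacts.En.Roots
  Cfsg.Agent.H122 Cfsg.Agent.H121.Cyc Cfsg.Agent.H123.SpNC Cfsg.Agent.H120.CycExc.Num
  Cfsg.Agent.TitsThree.KExcRT

universe u

theorem row_of {p : ℕ} [hp : Fact p.Prime] {G : Type*} [Group G] [Finite G] {q b : ℕ} (hb : MinDeg G b)
    (hnc : p ∣ q * (q ^ 2 - 1) → NC p G)
    (hbd : ¬ p ∣ q * (q ^ 2 - 1) → NC p G ∨ ∀ a, p ^ a ∣ Nat.card G → p ^ a ≤ b + 2) : Row p G := by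
  by_cases h : p ∣ q * (q ^ 2 - 1)
  · exact Row.of_nc (hnc h)
  · rcases hbd h with h1 | h1
    · exact Row.of_nc h1
    · refine Row.of_card hb fun P => ?_
      obtain ⟨n, hn⟩ := IsPGroup.iff_card.1 P.2
      rw [hn]
      apply h1
      rw [← hn]
      exact Subgroup.card_subgroup_dvd_card _

/-- the `p`-part of the order -/
theorem dvd_prod {p : ℕ} (hp : p.Prime) {q a c N m P : ℕ} (hpq : ¬ p ∣ q) (h : c * N = q ^ m * P) (hN : p ^ a ∣ N) :
    p ^ a ∣ P := by
  have h1 : p ^ a ∣ P * q ^ m := by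
    rw [mul_comm P, ← h]
    exact hN.mul_left c
  exact step0 hp (fun h2 => hpq (hp.dvd_of_dvd_pow h2)) h1

theorem pow_le_mul {q : ℕ} (hq : 2 ≤ q) (n : ℕ) : q ^ (n + 1) ≤ q ^ n * (q ^ 2 - 1) := by
  rw [pow_succ]
  refine Nat.mul_le_mul_left _ ?_
  have h1 : q * 2 ≤ q ^ 2 := by rw [pow_two]; exact Nat.mul_le_mul_left _ hq
  omega

theorem row_e6' (F : Type u) [Field F] [Fintype F] {p : ℕ} [hp : Fact p.Prime] (hp2 : p ≠ 2) :
    Row p ↥(chevE6.group F) := by
  have hs : IsSimpleGroup ↥(chevE6.group F) := (Cfsg.Agent.S1054.result chevE6 (by simp)).1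
  have hq : 2 ≤ Fintype.card F := Fintype.one_lt_card
  have hq1 : 1 ≤ Fintype.card F := by omega
  refine row_of (q := Fintype.card F) (minDeg_E ty_E6 F echk6) (fun h => nc_two (by simp) hp2 h chk_e6) (fun h => Or.inr ?_)
  intro a ha
  obtain ⟨hpq, he3⟩ := three_le hp.out hq1 h
  have hp5 := five_le hp.out hp2 hq1 h
  have h1 : p ^ a ∣ (([2, 5, 6, 8, 9, 12] : List ℕ).map fun d => Fintype.card F ^ d - 1).prod := by
    refine dvd_prod hp.out (c := Nat.gcd 3 (Fintype.card F - 1)) (m := 36) hpq ?_ ha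
    refine (Cfsg.Agent.S1063.result (F := F) rfl).trans ?_
    simp only [List.map_cons, List.map_nil, List.prod_cons, List.prod_nil]
    ring
  have hall : ∀ e ≤ 12, 3 ≤ e → chk [2, 5, 6, 8, 9, 12] 10 e = true := by decide
  have h2 := bound_all hp.out hp5 hpq hq he3 (N := 12) (by decide) (fun h => hall _ h he3) h1
  exact h2.trans ((pow_le_mul hq 9).trans (Nat.le_add_right _ _))

theorem row_e7' (F : Type u) [Field F] [Fintype F] {p : ℕ} [hp : Fact p.Prime] (hp2 : p ≠ 2) :
    Row p ↥(chevE7.group F) := by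
  have hs : IsSimpleGroup ↥(chevE7.group F) := (Cfsg.Agent.S1054.result chevE7 (by simp)).1
  have hq : 2 ≤ Fintype.card F := Fintype.one_lt_card
  have hq1 : 1 ≤ Fintype.card F := by omega
  refine row_of (q := Fintype.card F) (minDeg_E ty_E7 F echk7) (fun h => nc_two (by simp) hp2 h chk_e7) (fun h => Or.inr ?_)
  intro a ha
  obtain ⟨hpq, he3⟩ := three_le hp.out hq1 h
  have hp5 := five_le hp.out hp2 hq1 h
  have h1 : p ^ a ∣ (([2, 6, 8, 10, 12, 14, 18] : List ℕ).map fun d => Fintype.card F ^ d - 1).prod := by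
    refine dvd_prod hp.out (c := Nat.gcd 2 (Fintype.card F - 1)) (m := 63) hpq ?_ ha
    refine (Cfsg.Agent.S1064.result (F := F) rfl).trans ?_
    simp only [List.map_cons, List.map_nil, List.prod_cons, List.prod_nil]
    ring
  have hall : ∀ e ≤ 18, 3 ≤ e → chk [2, 6, 8, 10, 12, 14, 18] 12 e = true := by decide
  have h2 := bound_all hp.out hp5 hpq hq he3 (N := 18) (by decide) (fun h => hall _ h he3) h1
  exact h2.trans ((pow_le_mul hq 11).trans (Nat.le_add_right _ _))

theorem row_e8' (F : Type u) [Field F] [Fintype F] {p : ℕ} [hp : Fact p.Prime] (hp2 : p ≠ 2) :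
    Row p ↥(chevE8.group F) := by
  have hs : IsSimpleGroup ↥(chevE8.group F) := (Cfsg.Agent.S1054.result chevE8 (by simp)).1
  have hq : 2 ≤ Fintype.card F := Fintype.one_lt_card
  have hq1 : 1 ≤ Fintype.card F := by omega
  refine row_of (q := Fintype.card F) (minDeg_E ty_E8 F echk8) (fun h => nc_two (by simp) hp2 h chk_e8) (fun h => Or.inr ?_)
  intro a ha
  obtain ⟨hpq, he3⟩ := three_le hp.out hq1 h
  have hp5 := five_le hp.out hp2 hq1 h
  have h1 : p ^ a ∣ (([2, 8, 12, 14, 18, 20, 24, 30] : List ℕ).map fun d => Fintype.card F ^ d - 1).prod := by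
    refine dvd_prod hp.out (m := 120) (c := 1) hpq ?_ ha
    rw [one_mul]
    refine (Cfsg.Agent.S1065.result (F := F) rfl).trans ?_
    simp only [List.map_cons, List.map_nil, List.prod_cons, List.prod_nil]
    ring
  refine le_trans ?_ ((pow_le_mul hq 20).trans (Nat.le_add_right _ _))
  by_cases he4 : orderOf ((Fintype.card F : ℕ) : ZMod p) = 4
  · -- `e = 4`
    have h2 : p ^ a ∣ (Fintype.card F ^ 20 - 1) *
        (([2, 8, 12, 14, 18, 24, 30] : List ℕ).map fun d => Fintype.card F ^ d - 1).prod := by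
      convert h1 using 1
      simp only [List.map_cons, List.map_nil, List.prod_cons, List.prod_nil]
      ring
    have h3 := fold (q := Fintype.card F) hp.out hq1 _ _ (fun d hd hed => by
      rw [he4] at hed ⊢
      have hd' : d / 4 = 2 ∨ d / 4 = 3 ∨ d / 4 = 6 := by
        simp only [List.mem_cons, List.not_mem_nil, or_false] at hd
        omega
      intro h4
      have h5 : p ∣ 6 := by
        rcases hd' with h | h | h <;> rw [h] at h4
        · exact h4.trans (by norm_num)
        · exact h4.trans (by norm_num)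
        · exact h4
      have := Nat.le_of_dvd (by norm_num) h5
      have : p = 5 ∨ p = 6 := by omega
      rcases this with rfl | rfl
      · omega
      · exact absurd hp.out (by norm_num)) h2
    rw [he4] at h3
    have h4 : (([2, 8, 12, 14, 18, 24, 30] : List ℕ).countP fun d => decide (4 ∣ d)) = 3 := by decide
    rw [h4] at h3
    have h5 := half (f := 2) hp.out hq1 (by norm_num) he4 h3
    have e1 : Fintype.card F ^ 20 - 1 = (Fintype.card F ^ 10 - 1) * (Fintype.card F ^ 10 + 1) := by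
      obtain ⟨x, hx⟩ : ∃ x, Fintype.card F ^ 10 = x + 1 :=
        ⟨Fintype.card F ^ 10 - 1, by have := Nat.one_le_pow 10 _ hq1; omega⟩
      have : Fintype.card F ^ 20 = Fintype.card F ^ 10 * Fintype.card F ^ 10 := by rw [← pow_add]
      rw [this, hx, Nat.add_sub_cancel]
      have : (x + 1) * (x + 1) = x * (x + 1 + 1) + 1 := by ring
      rw [this, Nat.add_sub_cancel]
    have h6 : p ^ a ∣ ((Fintype.card F ^ 10 + 1) * (Fintype.card F ^ 2 + 1) ^ 3) * (Fintype.card F ^ 10 - 1) := by
      convert h5 using 1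
      rw [e1]
      ring
    have h7 := step0 hp.out (fun h => by
      rw [dvd_iff hq1, he4] at h
      omega) h6
    refine (Nat.le_of_dvd (by positivity) h7).trans ?_
    calc (Fintype.card F ^ 10 + 1) * (Fintype.card F ^ 2 + 1) ^ 3
        ≤ Fintype.card F ^ 11 * (Fintype.card F ^ 3) ^ 3 :=
          Nat.mul_le_mul (le_pow_succ hq 10) (Nat.pow_le_pow_left (le_pow_succ hq 2) 3)
      _ = Fintype.card F ^ 20 := by rw [← pow_mul, ← pow_add]
      _ ≤ Fintype.card F ^ 21 := Nat.pow_le_pow_right (by omega) (by norm_num)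
  · have hall : ∀ e ≤ 30, 3 ≤ e → e ≠ 4 → chk [2, 8, 12, 14, 18, 20, 24, 30] 21 e = true := by decide
    exact bound_all hp.out hp5 hpq hq he3 (N := 30) (by decide) (fun h => hall _ h he3 he4) h1

/-! ### `F₄` -/

/-- the long `A₂` -/
def rA : Fin 3 → Fin 3 → ℕ := ![![0, 33, 44], ![chevF4.neg 33, 0, 40], ![chevF4.neg 44, chevF4.neg 40, 0]]
/-- the other `A₂` -/
def rB : Fin 3 → Fin 3 → ℕ := ![![0, 25, 26], ![chevF4.neg 25, 0, 24], ![chevF4.neg 26, chevF4.neg 24, 0]]
/-- its signs -/
def sB : Fin 3 → Fin 3 → ℤ := ![![1, -1, 1], ![-1, 1, 1], ![1, 1, 1]]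

theorem nc_f4 {F : Type u} [Field F] [Fintype F] {p : ℕ} [Fact p.Prime] (hp3 : p ≠ 3)
    (hdv : p ∣ Fintype.card F ^ 2 + Fintype.card F + 1) : NC p ↥(chevF4.group F) :=
  nc_three (by simp) hp3 hdv (r := rA) (s := fun _ _ => 1) (r' := rB) (s' := sB) (by decide +kernel) (by decide +kernel)
    (by decide +kernel) (by decide +kernel) (by decide +kernel) (by decide +kernel) (by decide +kernel)
    (by decide +kernel) (by decide +kernel)

theorem cube_sub {q : ℕ} (hq : 1 ≤ q) : q ^ 3 - 1 = (q - 1) * (q ^ 2 + q + 1) := by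
  obtain ⟨k, rfl⟩ : ∃ k, q = k + 1 := ⟨q - 1, by omega⟩
  have : (k + 1) ^ 3 = k * ((k + 1) ^ 2 + (k + 1) + 1) + 1 := by ring
  rw [this, Nat.add_sub_cancel, Nat.add_sub_cancel]

theorem cube_add {x : ℕ} (hx : 1 ≤ x) : x ^ 3 + 1 = (x + 1) * (x ^ 2 - x + 1) := by
  obtain ⟨k, rfl⟩ : ∃ k, x = k + 1 := ⟨x - 1, by omega⟩
  have : (k + 1) ^ 2 = k * (k + 1) + (k + 1) := by ring
  rw [this, Nat.add_sub_cancel]
  ring

theorem row_f4' (F : Type u) [Field F] [Fintype F] {p : ℕ} [hp : Fact p.Prime] (hp2 : p ≠ 2) :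
    Row p ↥(chevF4.group F) := by
  have hs : IsSimpleGroup ↥(chevF4.group F) := (Cfsg.Agent.S1054.result chevF4 (by simp)).1
  have hq : 2 ≤ Fintype.card F := Fintype.one_lt_card
  have hq1 : 1 ≤ Fintype.card F := by omega
  refine row_of (q := Fintype.card F) (FFour.minDeg_F4 F) (fun h => nc_two (by simp) hp2 h chk_f4) (fun h => ?_)
  obtain ⟨hpq, he3⟩ := three_le hp.out hq1 h
  have hp5 := five_le hp.out hp2 hq1 h
  have hnot : ∀ d, ¬ orderOf ((Fintype.card F : ℕ) : ZMod p) ∣ d → ¬ p ∣ Fintype.card F ^ d - 1 :=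
    fun d h1 h2 => h1 ((dvd_iff hq1 d).1 h2)
  by_cases h3 : orderOf ((Fintype.card F : ℕ) : ZMod p) = 3
  · left
    refine nc_f4 (by omega) ?_
    have h4 : p ∣ Fintype.card F ^ 3 - 1 := (dvd_iff hq1 3).2 (by rw [h3])
    rw [cube_sub hq1] at h4
    rcases (Nat.Prime.dvd_mul hp.out).1 h4 with h5 | h5
    · exfalso
      have := hnot 1 (by rw [h3]; norm_num)
      rw [pow_one] at this
      exact this h5
    · exact h5
  right
  intro a ha
  have h1 : p ^ a ∣ 1 * (([2, 6, 8, 12] : List ℕ).map fun d => Fintype.card F ^ d - 1).prod := by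
    rw [one_mul]
    refine dvd_prod hp.out (m := 24) (c := 1) hpq ?_ ha
    rw [one_mul]
    refine (Cfsg.Agent.S1062.result (F := F) rfl).trans ?_
    simp only [List.map_cons, List.map_nil, List.prod_cons, List.prod_nil]
    ring
  have h2 := fold (q := Fintype.card F) hp.out hq1 _ _ (fun d hd hed => by
    have hd12 : d ≤ 12 ∧ d ≠ 0 := by
      simp only [List.mem_cons, List.not_mem_nil, or_false] at hd
      omega
    have h4 : d / orderOf ((Fintype.card F : ℕ) : ZMod p) ≤ 4 := by
      calc d / orderOf ((Fintype.card F : ℕ) : ZMod p) ≤ d / 3 := Nat.div_le_div_left he3 (by norm_num)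
        _ ≤ 12 / 3 := Nat.div_le_div_right hd12.1
        _ = 4 := by norm_num
    have h5 : 0 < d / orderOf ((Fintype.card F : ℕ) : ZMod p) :=
      Nat.div_pos (Nat.le_of_dvd (Nat.pos_of_ne_zero hd12.2) hed) (by omega)
    intro h6
    have := Nat.le_of_dvd h5 h6
    omega) h1
  -- the bound
  have hfin : p ^ a ≤ (Fintype.card F ^ 2 + 1) ^ 2 := by
    generalize hq' : Fintype.card F = q at *
    have hx1 : 1 ≤ q ^ 2 := Nat.one_le_pow _ _ hq1
    have hle1 : q ^ 2 - q + 1 ≤ q ^ 2 + 1 := by omega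
    by_cases h4 : orderOf ((q : ℕ) : ZMod p) = 4
    · rw [h4] at h2
      have h5 := half (f := 2) hp.out hq1 (by norm_num) h4 h2
      rw [one_mul] at h5
      exact Nat.le_of_dvd (by positivity) h5
    by_cases h6 : orderOf ((q : ℕ) : ZMod p) = 6
    · rw [h6] at h2
      have h5 := half (f := 3) hp.out hq1 (by norm_num) h6 h2
      rw [cube_add hq1] at h5
      have h7 := step_pow hp.out (fun h => by
        have h8 : p ∣ q ^ 2 - 1 := by
          have e : q ^ 2 - 1 = (q - 1) * (q + 1) := by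
            obtain ⟨k, rfl⟩ : ∃ k, q = k + 1 := ⟨q - 1, by omega⟩
            have : (k + 1) ^ 2 = k * (k + 1 + 1) + 1 := by ring
            rw [this, Nat.add_sub_cancel, Nat.add_sub_cancel]
          rw [e]
          exact h.mul_left _
        exact hnot 2 (by rw [h6]; norm_num) h8) h5
      rw [one_mul] at h7
      exact (Nat.le_of_dvd (by positivity) h7).trans (Nat.pow_le_pow_left hle1 _)
    by_cases h8 : orderOf ((q : ℕ) : ZMod p) = 8
    · rw [h8] at h2
      have h5 := half (f := 4) hp.out hq1 (by norm_num) h8 h2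
      rw [one_mul] at h5
      have h9 : (([2, 6, 8, 12] : List ℕ).countP fun d => decide (8 ∣ d)) = 1 := by decide
      rw [h9, pow_one] at h5
      refine (Nat.le_of_dvd (by positivity) h5).trans ?_
      nlinarith
    by_cases h12 : orderOf ((q : ℕ) : ZMod p) = 12
    · rw [h12] at h2
      have h5 := half (f := 6) hp.out hq1 (by norm_num) h12 h2
      have h9 : (([2, 6, 8, 12] : List ℕ).countP fun d => decide (12 ∣ d)) = 1 := by decide
      have e : q ^ 6 + 1 = (q ^ 2 + 1) * ((q ^ 2) ^ 2 - q ^ 2 + 1) := by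
        rw [← cube_add hx1]
        ring
      rw [h9, e] at h5
      have h7 := step_pow hp.out (fun h => by
        have h8 : p ∣ q ^ 4 - 1 := by
          have e : q ^ 4 - 1 = (q ^ 2 - 1) * (q ^ 2 + 1) := by
            obtain ⟨k, hk⟩ : ∃ k, q ^ 2 = k + 1 := ⟨q ^ 2 - 1, by omega⟩
            have h10 : q ^ 4 = q ^ 2 * q ^ 2 := by ring
            rw [h10, hk]
            have : (k + 1) * (k + 1) = k * (k + 1 + 1) + 1 := by ring
            rw [this, Nat.add_sub_cancel, Nat.add_sub_cancel]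
          rw [e]
          exact h.mul_left _
        exact hnot 4 (by rw [h12]; norm_num) h8) h5
      rw [one_mul, pow_one] at h7
      refine (Nat.le_of_dvd (by positivity) h7).trans ?_
      have : (q ^ 2) ^ 2 - q ^ 2 + 1 ≤ (q ^ 2) ^ 2 + 1 := by omega
      nlinarith
    · have hz : (([2, 6, 8, 12] : List ℕ).countP fun d => decide (orderOf ((q : ℕ) : ZMod p) ∣ d)) = 0 := by
        rw [List.countP_eq_zero]
        intro d hd
        simp only [decide_eq_true_eq]
        intro hed
        simp only [List.mem_cons, List.not_mem_nil, or_false] at hd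
        have hle := Nat.le_of_dvd (by omega) hed
        have hle2 : orderOf ((q : ℕ) : ZMod p) ≤ 12 := by omega
        generalize orderOf ((q : ℕ) : ZMod p) = e at *
        interval_cases e <;> omega
      rw [hz, pow_zero, one_mul] at h2
      refine (Nat.le_of_dvd one_pos h2).trans ?_
      exact Nat.one_le_pow _ _ (by omega)
  refine hfin.trans ?_
  generalize Fintype.card F = q at *
  rcases Nat.lt_or_ge q 3 with h4 | h4
  · have : q = 2 := by omega
    subst this
    norm_num
  · obtain ⟨k, rfl⟩ := Nat.exists_eq_add_of_le h4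
    have e : (3 + k) ^ 2 - 1 = 8 + 6 * k + k ^ 2 := by
      have : (3 + k) ^ 2 = 8 + 6 * k + k ^ 2 + 1 := by ring
      omega
    rw [e]
    nlinarith [sq_nonneg k, Nat.zero_le (k ^ 3), Nat.zero_le (k ^ 4), Nat.zero_le (k ^ 5)]

/-! ### `G₂` -/

/-- the long `A₂` -/
def rG : Fin 3 → Fin 3 → ℕ := ![![0, 6, 11], ![5, 0, 10], ![0, 1, 0]]

theorem minDeg_G2 (F : Type u) [Field F] [Fintype F] [IsSimpleGroup ↥(chevG2.group F)] :
    MinDeg ↥(chevG2.group F) (Fintype.card F ^ 2 - 1) ∧
    (Fintype.card F ≠ 2 → Fintype.card F ≠ 4 → MinDeg ↥(chevG2.group F) (Fintype.card F ^ 2 + Fintype.card F)) := by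
  classical
  have ha : RTa chevG2 rG := by decide +kernel
  have hd : RTd (fun _ _ => 1 : Fin 3 → Fin 3 → ℤ) := by decide +kernel
  obtain ⟨π, hπ⟩ := exists_pi (F := F) (D := chevG2) (by simp) (r := rG) (s := fun _ _ => 1) ha
    (by decide +kernel) (by decide +kernel) hd
  have h01 : (0 : Fin 3) ≠ 1 := by decide
  have hne : ∃ x, π x ≠ 1 := ⟨_, pi_ne (by simp) ha hd hπ h01 one_ne_zero⟩
  obtain ⟨h1, h2⟩ := minDeg_sl3 F
  exact ⟨MinDeg.of_hom h1 π hne, fun h3 h4 => MinDeg.of_hom (h2 h3 h4) π hne⟩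

theorem row_g2' (F : Type u) [Field F] [Fintype F] (hF : 3 ≤ Fintype.card F) {p : ℕ} [hp : Fact p.Prime] (hp2 : p ≠ 2) :
    Row p ↥(chevG2.group F) := by
  classical
  have hex : ∃ a : F, a ≠ 0 ∧ a ≠ 1 := by
    by_contra hcon
    push Not at hcon
    have h1 : (Finset.univ : Finset F) ⊆ {0, 1} := by
      intro a _
      rw [Finset.mem_insert, Finset.mem_singleton]
      by_cases h : a = 0
      · exact Or.inl h
      · exact Or.inr (hcon a h)
    have h2 := (Finset.card_le_card h1).trans (Finset.card_insert_le _ _)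
    rw [Finset.card_univ, Finset.card_singleton] at h2
    omega
  have hs : IsSimpleGroup ↥(chevG2.group F) := (Cfsg.Agent.S1055.result hex).1
  have hq1 : 1 ≤ Fintype.card F := by omega
  obtain ⟨hb1, hb2⟩ := minDeg_G2 F
  -- the `p`-part
  have hpart : ¬ p ∣ Fintype.card F * (Fintype.card F ^ 2 - 1) → ∀ a, p ^ a ∣ Nat.card ↥(chevG2.group F) →
      p ^ a ∣ Fintype.card F ^ 2 + Fintype.card F + 1 ∨ p ^ a ∣ Fintype.card F ^ 2 - Fintype.card F + 1 := by
    intro h a ha
    obtain ⟨hpq, he3⟩ := three_le hp.out hq1 h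
    have hp5 := five_le hp.out hp2 hq1 h
    have hnot : ∀ d, ¬ orderOf ((Fintype.card F : ℕ) : ZMod p) ∣ d → ¬ p ∣ Fintype.card F ^ d - 1 :=
      fun d h1 h2 => h1 ((dvd_iff hq1 d).1 h2)
    have h1 : p ^ a ∣ 1 * (([2, 6] : List ℕ).map fun d => Fintype.card F ^ d - 1).prod := by
      rw [one_mul]
      refine dvd_prod hp.out (m := 6) (c := 1) hpq ?_ ha
      rw [one_mul]
      refine (Cfsg.Agent.S1059.result (F := F) rfl).trans ?_
      simp only [List.map_cons, List.map_nil, List.prod_cons, List.prod_nil]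
      ring
    have h2 := fold (q := Fintype.card F) hp.out hq1 _ _ (fun d hd hed => by
      have hd6 : d ≤ 6 ∧ d ≠ 0 := by
        simp only [List.mem_cons, List.not_mem_nil, or_false] at hd
        omega
      have h4 : d / orderOf ((Fintype.card F : ℕ) : ZMod p) ≤ 2 := by
        calc d / orderOf ((Fintype.card F : ℕ) : ZMod p) ≤ d / 3 := Nat.div_le_div_left he3 (by norm_num)
          _ ≤ 6 / 3 := Nat.div_le_div_right hd6.1
          _ = 2 := by norm_num
      have h5 : 0 < d / orderOf ((Fintype.card F : ℕ) : ZMod p) :=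
        Nat.div_pos (Nat.le_of_dvd (Nat.pos_of_ne_zero hd6.2) hed) (by omega)
      intro h6
      have := Nat.le_of_dvd h5 h6
      omega) h1
    generalize hq' : Fintype.card F = q at *
    by_cases h3 : orderOf ((q : ℕ) : ZMod p) = 3
    · left
      rw [h3] at h2
      have h9 : (([2, 6] : List ℕ).countP fun d => decide (3 ∣ d)) = 1 := by decide
      rw [h9, cube_sub hq1] at h2
      have h7 := step_pow hp.out (fun h => by
        have := hnot 1 (by rw [h3]; norm_num)
        rw [pow_one] at this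
        exact this h) h2
      rwa [one_mul, pow_one] at h7
    by_cases h6 : orderOf ((q : ℕ) : ZMod p) = 6
    · right
      rw [h6] at h2
      have h9 : (([2, 6] : List ℕ).countP fun d => decide (6 ∣ d)) = 1 := by decide
      have h5 := half (f := 3) hp.out hq1 (by norm_num) h6 h2
      rw [h9, cube_add hq1] at h5
      have h7 := step_pow hp.out (fun h => by
        have h8 : p ∣ q ^ 2 - 1 := by
          have e : q ^ 2 - 1 = (q - 1) * (q + 1) := by
            obtain ⟨k, rfl⟩ : ∃ k, q = k + 1 := ⟨q - 1, by omega⟩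
            have : (k + 1) ^ 2 = k * (k + 1 + 1) + 1 := by ring
            rw [this, Nat.add_sub_cancel, Nat.add_sub_cancel]
          rw [e]
          exact h.mul_left _
        exact hnot 2 (by rw [h6]; norm_num) h8) h5
      rwa [one_mul, pow_one] at h7
    · left
      have hz : (([2, 6] : List ℕ).countP fun d => decide (orderOf ((q : ℕ) : ZMod p) ∣ d)) = 0 := by
        rw [List.countP_eq_zero]
        intro d hd
        simp only [decide_eq_true_eq]
        intro hed
        simp only [List.mem_cons, List.not_mem_nil, or_false] at hd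
        have hle := Nat.le_of_dvd (by omega) hed
        have hle2 : orderOf ((q : ℕ) : ZMod p) ≤ 6 := by omega
        generalize orderOf ((q : ℕ) : ZMod p) = e at *
        interval_cases e <;> omega
      rw [hz, pow_zero, one_mul] at h2
      exact h2.trans (one_dvd _)
  by_cases h4 : Fintype.card F = 4
  · refine row_of (q := Fintype.card F) hb1 (fun h => nc_two (by simp) hp2 h chk_g2) (fun h => Or.inr ?_)
    intro a ha
    have h1 := hpart h a ha
    have hp5 := five_le hp.out hp2 hq1 h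
    rw [h4] at h1 ⊢
    have h2 : p ^ a ∣ 7 * 3 ∨ p ^ a ∣ 13 := h1
    rcases h2 with h2 | h2
    · have h3 := step0 hp.out (fun h => by
        have := Nat.le_of_dvd (by norm_num) h
        omega) h2
      have := Nat.le_of_dvd (by norm_num) h3
      norm_num
      omega
    · have := Nat.le_of_dvd (by norm_num) h2
      norm_num
      omega
  · refine row_of (q := Fintype.card F) (hb2 (by omega) h4) (fun h => nc_two (by simp) hp2 h chk_g2) (fun h => Or.inr ?_)
    intro a ha
    rcases hpart h a ha with h1 | h1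
    · have := Nat.le_of_dvd (by positivity) h1
      omega
    · have := Nat.le_of_dvd (by positivity) h1
      omega

/-! ### The rows -/

section rows

variable {p : ℕ} [Fact p.Prime] {G : Type*} [Group G] [Finite G] [IsSimpleGroup G]

theorem row_g2 (hp2 : p ≠ 2) (h : Cfsg.Lie.IsoChevG2 G) : Row p G := by
  obtain ⟨F, _, _, h3, ⟨e⟩⟩ := h
  exact (row_g2' F h3 hp2).congr e.symm

theorem row_f4 (hp2 : p ≠ 2) (h : Cfsg.Lie.IsoF4 G) : Row p G := by
  obtain ⟨F, _, _, ⟨e⟩⟩ := h
  exact (row_f4' F hp2).congr e.symm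

theorem row_e6 (hp2 : p ≠ 2) (h : Cfsg.Lie.IsoChevE6 G) : Row p G := by
  obtain ⟨F, _, _, ⟨e⟩⟩ := h
  exact (row_e6' F hp2).congr e.symm

theorem row_e7 (hp2 : p ≠ 2) (h : Cfsg.Lie.IsoE7 G) : Row p G := by
  obtain ⟨F, _, _, ⟨e⟩⟩ := h
  exact (row_e7' F hp2).congr e.symm

theorem row_e8 (hp2 : p ≠ 2) (h : Cfsg.Lie.IsoE8 G) : Row p G := by
  obtain ⟨F, _, _, ⟨e⟩⟩ := h
  exact (row_e8' F hp2).congr e.symm

end rows

end Cfsg.Agent.H120.CycExc
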