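import Cfsg.Agent.H120.Cyc.Chev
import Cfsg.Agent.H92.ExcSL2

/-!
# The `SL₂` of a root over a subfield, inside a subgroup of a Chevalley group
-/

set_option autoImplicit false
set_option linter.unusedSectionVars false

namespace Cfsg.Agent.H120.CycExc

open Matrix Subgroup Cfsg.Lie Cfsg.Agent.ChevalleyStructure.Elts Cfsg.Agent.ChevalleyStructure.SL2Hom
  Cfsg.Agent.H92.ExcSL2 Cfsg.Agent.H123.SpNC

universe u v

section Sub

variable {D : ChevalleyDatum} {K : Type u} [Field K] {L : Type v} [Field L] (ι : L →+* K) (hD : InList D)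

theorem uu_eq (t : L) : uu t = up t := rfl
theorem vv_eq (t : L) : vv t = lo t := rfl

theorem map_uu (t : L) : SpecialLinearGroup.map ι (uu t) = up (ι t) := by
  apply Subtype.ext
  show ι.mapMatrix (uu t).1 = (up (ι t)).1
  ext i j
  fin_cases i <;> fin_cases j <;> simp [uu, up]

theorem map_vv (t : L) : SpecialLinearGroup.map ι (vv t) = lo (ι t) := by
  apply Subtype.ext
  show ι.mapMatrix (vv t).1 = (lo (ι t)).1
  ext i j
  fin_cases i <;> fin_cases j <;> simp [vv, lo]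

/-- the homomorphism into `D.group K` -/
noncomputable def sub0 {r : ℕ} (hr : r < D.nroots) : SpecialLinearGroup (Fin 2) L →* GL D.Idx K :=
  ((D.group K).subtype.comp (ph hD hr)).comp (SpecialLinearGroup.map ι)

theorem sub0_uu {r : ℕ} (hr : r < D.nroots) (t : L) : sub0 ι hD hr (uu t) = xG hD r (ι t) := by
  show ((ph hD hr (SpecialLinearGroup.map ι (uu t)) : ↥(D.group K)) : GL D.Idx K) = _
  rw [map_uu, coe_ph, phi_up hD hr]

theorem sub0_vv {r : ℕ} (hr : r < D.nroots) (t : L) : sub0 ι hD hr (vv t) = xG hD (D.neg r) (ι t) := by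
  show ((ph hD hr (SpecialLinearGroup.map ι (vv t)) : ↥(D.group K)) : GL D.Idx K) = _
  rw [map_vv, coe_ph, phi_lo hD hr]

variable {ι hD}

theorem sub0_mem {r : ℕ} {hr : r < D.nroots} {Γ : Subgroup (GL D.Idx K)} (h1 : ∀ a : L, xG hD r (ι a) ∈ Γ)
    (h2 : ∀ a : L, xG hD (D.neg r) (ι a) ∈ Γ) (g : SpecialLinearGroup (Fin 2) L) : sub0 ι hD hr g ∈ Γ := by
  have h3 : Subgroup.closure (Set.range (up (F := L)) ∪ Set.range (lo (F := L))) ≤ Γ.comap (sub0 ι hD hr) := by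
    rw [Subgroup.closure_le]
    rintro _ (⟨t, rfl⟩ | ⟨t, rfl⟩)
    · show sub0 ι hD hr (uu t) ∈ Γ
      rw [sub0_uu]
      exact h1 t
    · show sub0 ι hD hr (vv t) ∈ Γ
      rw [sub0_vv]
      exact h2 t
  exact h3 (mem_closure_SL2 g)

/-- the homomorphism into `Γ` -/
noncomputable def sub1 {r : ℕ} (hr : r < D.nroots) {Γ : Subgroup (GL D.Idx K)} (h1 : ∀ a : L, xG hD r (ι a) ∈ Γ)
    (h2 : ∀ a : L, xG hD (D.neg r) (ι a) ∈ Γ) : SpecialLinearGroup (Fin 2) L →* ↥Γ :=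
  (sub0 ι hD hr).codRestrict Γ (sub0_mem h1 h2)

theorem coe_sub1 {r : ℕ} {hr : r < D.nroots} {Γ : Subgroup (GL D.Idx K)} (h1 : ∀ a : L, xG hD r (ι a) ∈ Γ)
    (h2 : ∀ a : L, xG hD (D.neg r) (ι a) ∈ Γ) (g : SpecialLinearGroup (Fin 2) L) :
    ((sub1 hr h1 h2 g : ↥Γ) : GL D.Idx K) =
      ((ph hD hr (SpecialLinearGroup.map ι g) : ↥(D.group K)) : GL D.Idx K) := rfl

/-- an element of order `p` not centralising the range -/
theorem sub1_exists [Fintype L] {p : ℕ} [Fact p.Prime] (hp2 : p ≠ 2)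
    (hd : p ∣ Fintype.card L * (Fintype.card L ^ 2 - 1)) {r : ℕ} {hr : r < D.nroots} {Γ : Subgroup (GL D.Idx K)}
    (h1 : ∀ a : L, xG hD r (ι a) ∈ Γ) (h2 : ∀ a : L, xG hD (D.neg r) (ι a) ∈ Γ) (hpos : D.IsPosRoot r)
    (hneg : D.IsNegRoot (D.neg r)) : ∃ x, x ^ p = 1 ∧ x ∉ cc (sub1 hr h1 h2) := by
  have e1 : ∀ a, ((sub1 hr h1 h2 (uu a) : ↥Γ) : GL D.Idx K) = xG hD r (ι a) := fun a => sub0_uu ι hD hr a
  have e2 : ∀ a, ((sub1 hr h1 h2 (vv a) : ↥Γ) : GL D.Idx K) = xG hD (D.neg r) (ι a) := fun a => sub0_vv ι hD hr a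
  refine exists_two hp2 hd ?_ ?_
  · intro h3
    have h4 := congrArg Subtype.val h3
    rw [e1, e2, map_one] at h4
    exact pos_ne_neg hD hpos hneg one_ne_zero h4
  · intro h3
    have h4 := congrArg Subtype.val (eq_inv_of_mul_eq_one_left h3)
    rw [InvMemClass.coe_inv, e1, e2, map_one] at h4
    have h5 : (xG hD (D.neg r) (1 : K))⁻¹ = xG hD (D.neg r) (-1) := by
      rw [inv_eq_iff_mul_eq_one, xG_add, add_neg_cancel, xG_zero]
    rw [h5] at h4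
    exact pos_ne_neg hD hpos hneg one_ne_zero h4

/-- **Two orthogonal roots over a subfield.** -/
theorem nc_sub [Fintype L] {p : ℕ} [Fact p.Prime] (hp2 : p ≠ 2)
    (hd : p ∣ Fintype.card L * (Fintype.card L ^ 2 - 1)) {r s : ℕ} {Γ : Subgroup (GL D.Idx K)} [Finite ↥Γ]
    (hr : D.IsPosRoot r) (hr' : D.IsNegRoot (D.neg r)) (hs : D.IsPosRoot s) (hs' : D.IsNegRoot (D.neg s))
    (ho : Orth4 D r s = true)
    (h1 : ∀ a : L, xG hD r (ι a) ∈ Γ) (h2 : ∀ a : L, xG hD (D.neg r) (ι a) ∈ Γ)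
    (h3 : ∀ a : L, xG hD s (ι a) ∈ Γ) (h4 : ∀ a : L, xG hD (D.neg s) (ι a) ∈ Γ) : NC p ↥Γ := by
  refine nc_of_two (φ := sub1 hr.1 h1 h2) (ψ := sub1 hs.1 h3 h4) (fun x y => ?_)
    (sub1_exists hp2 hd h1 h2 hr hr') (sub1_exists hp2 hd h3 h4 hs hs')
  apply Subtype.ext
  show ((sub1 hr.1 h1 h2 x : ↥Γ) : GL D.Idx K) * ((sub1 hs.1 h3 h4 y : ↥Γ) : GL D.Idx K) =
    ((sub1 hs.1 h3 h4 y : ↥Γ) : GL D.Idx K) * ((sub1 hr.1 h1 h2 x : ↥Γ) : GL D.Idx K)
  rw [coe_sub1, coe_sub1, ← Subgroup.coe_mul, ← Subgroup.coe_mul]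
  exact congrArg _ (ph_commute hD hr.1 hs.1 ho _ _).eq

end Sub

end Cfsg.Agent.H120.CycExc
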