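import Cfsg.Agent.H120.Cyc.Rows
import Cfsg.Agent.H120.Cyc.Sub
import Cfsg.Agent.H868.KTwD4
import Cfsg.Agent.H121.TwD4
import Cfsg.Agent.H121.Cyc.Base
import Cfsg.Agent.S1067
import Cfsg.Agent.S1071

/-!
# Cyclic Sylow subgroups and degrees: `³D₄(q)`
-/

set_option autoImplicit false
set_option linter.unusedSectionVars false

namespace Cfsg.Agent.H120.CycExc

open Matrix Module Cfsg.Lie Cfsg.Agent.ChevalleyStructure Cfsg.Agent.ChevalleyStructure.Elts
  Cfsg.Agent.ChevalleyStructure.SL2Hom Cfsg.Agent.H92.ExcSL2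
  Cfsg.Agent.H122 Cfsg.Agent.H121.Cyc Cfsg.Agent.H123.SpNC Cfsg.Agent.H120.CycExc.Num
  Cfsg.Agent.TitsThree.KExcRT Cfsg.Agent.H868.KTwD4 Cfsg.Agent.H868.KSL2

namespace TriD4

variable {K : Type} [Field K]

/-- the minimal degree -/
theorem minDeg [Fintype K] {q : ℕ} (hq : IsPrimePow q) (hK : Fintype.card K = q ^ 3) :
    MinDeg ↥(twistedD4 K q) ((q ^ 2 - 1) * q ^ 3 + (q - 1)) := by
  intro M _ _ _ ρ hρ
  have hs : IsSimpleGroup ↥(Cfsg.Lie.twistedD4 K q) := (Cfsg.Agent.S1071.result hq hK).1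
  obtain ⟨φ, hφ⟩ := Cfsg.Agent.ChevalleyStructure.D4Fixed.exists_frob hq hK
  let σ : K ≃+* K := RingEquiv.ofBijective φ (Finite.injective_iff_bijective.1 φ.injective)
  have hσφ : ∀ x, σ x = φ x := fun x => rfl
  have hσ : ∀ x, σ x = x ^ q := fun x => hφ x
  obtain ⟨n, h, D⟩ := Cfsg.Agent.H121.TwD4.hexAux hq.one_lt hK hφ hσφ
  have hx : Cfsg.Agent.Hexagon.TwD4Par.ev (q := q) Cfsg.Agent.Hexagon.TwD4Rel.X4 (1 : K) ≠ 1 := by
    intro h1
    have h2 := congrArg Subtype.val h1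
    have c4 := fun {t : K} (ht : σ t = t) => Cfsg.Agent.Hexagon.TwD4Par.c4 hφ hσφ ht
    rw [c4 (map_one σ)] at h2
    have h3 : Cfsg.Agent.Hexagon.TwD4Rel.X4 (1 : K) = Cfsg.Agent.Hexagon.TwD4Rel.X4 0 := by
      rw [h2, Cfsg.Agent.Hexagon.TwD4Rel.X4, Cfsg.Agent.Hexagon.TwD4Par.w1_eq, neg_zero]
      exact (Cfsg.Agent.ChevalleyStructure.D4Comm.xG_zero _).symm
    exact one_ne_zero (Cfsg.Agent.Hexagon.TwD4Par.X4_inj h3)
  have hne := Cfsg.Agent.H121.Chr.faithful ρ hρ hx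
  have hm := Cfsg.Agent.H121.HexMin.main ρ D ⟨1, map_one σ, hne⟩
  rwa [Cfsg.Agent.H121.TwD4.card_fx hq.one_lt hK hσ, Nat.card_eq_fintype_card, hK] at hm

/-! ### `p ∣ q (q² - 1)` -/

theorem pos23 : chevD4.IsPosRoot 23 := by decide +kernel
theorem neg23 : chevD4.IsNegRoot (chevD4.neg 23) := by decide +kernel

/-- `B` into `³D₄(q)` -/
noncomputable def B' {q : ℕ} (φ : K →+* K) (hφ : ∀ x, φ x = x ^ q) : SL2 K →* ↥(twistedD4 K q) :=
  ((chevD4.group K).subtype.comp (B φ)).codRestrict (twistedD4 K q) (B_mem hφ)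

theorem coe_B' {q : ℕ} (φ : K →+* K) (hφ : ∀ x, φ x = x ^ q) (g : SL2 K) :
    ((B' φ hφ g : ↥(twistedD4 K q)) : GL chevD4.Idx K) = ((B φ g : ↥(chevD4.group K)) : GL chevD4.Idx K) := rfl

theorem uv_ne : ¬ ((uu (1 : K) * vv 1 = 1) ∨ (uu (1 : K) * vv 1 = -1)) := by
  have h : (uu (1 : K) * vv 1).1 0 1 = 1 := by
    show (!![1, (1 : K); 0, 1] * !![1, 0; (1 : K), 1]) 0 1 = 1
    simp
  rintro (h1 | h1)
  · rw [h1] at h
    simp at h
  · rw [h1] at h
    simp at h

theorem exists_of_ker {G : Type*} [Group G] {φ : SL2 K →* G} (hk : KerPM φ) [Fintype K] {p : ℕ} [hp : Fact p.Prime]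
    (hp2 : p ≠ 2) (hd : p ∣ Fintype.card K * (Fintype.card K ^ 2 - 1)) : ∃ x, x ^ p = 1 ∧ x ∉ cc φ := by
  refine exists_two hp2 hd ?_ ?_
  · intro h
    apply uv_ne (K := K)
    apply hk
    have e : vv (1 : K) = (vv (-1))⁻¹ := by
      rw [eq_inv_iff_mul_eq_one]
      apply Subtype.ext
      show !![1, 0; (1 : K), 1] * !![1, 0; (-1 : K), 1] = 1
      rw [Matrix.mul_fin_two, Matrix.one_fin_two]
      congr 1
      ext i j
      fin_cases i <;> fin_cases j <;> simp
    rw [e, map_mul, map_inv, h, mul_inv_cancel]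
  · intro h
    rw [← map_mul] at h
    exact uv_ne (hk _ h)

theorem kerPM_B' {q : ℕ} (φ : K →+* K) (hφ : ∀ x, φ x = x ^ q) : KerPM (B' φ hφ) := by
  intro g hg
  apply kerPM_B φ
  apply Subtype.ext
  have := congrArg Subtype.val hg
  exact this

/-- **`p ∣ q (q² - 1)`** -/
theorem nc_q [Fintype K] {q : ℕ} (hq : IsPrimePow q) (hK : Fintype.card K = q ^ 3) {p : ℕ} [hp : Fact p.Prime]
    (hp2 : p ≠ 2) (hd : p ∣ q * (q ^ 2 - 1)) : NC p ↥(twistedD4 K q) := by
  obtain ⟨φ, hφ⟩ := Cfsg.Agent.ChevalleyStructure.D4Fixed.exists_frob hq hK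
  let σ : K ≃+* K := RingEquiv.ofBijective φ (Finite.injective_iff_bijective.1 φ.injective)
  have hσ : ∀ x, σ x = x ^ q := fun x => hφ x
  have hfx : ∀ a : Cfsg.Agent.H121.HexMin.fx σ, φ (a : K) = a := fun a => a.2
  have : Fintype (Cfsg.Agent.H121.HexMin.fx σ) := Fintype.ofFinite _
  have hcard : Fintype.card (Cfsg.Agent.H121.HexMin.fx σ) = q := by
    rw [← Nat.card_eq_fintype_card]
    exact Cfsg.Agent.H121.TwD4.card_fx hq.one_lt hK hσ
  have h1 : ∀ a : Cfsg.Agent.H121.HexMin.fx σ, xG hD4 23 ((Cfsg.Agent.H121.HexMin.fx σ).subtype a) ∈ twistedD4 K q := by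
    intro a
    rw [xG_eq]
    exact x23_mem hφ (hfx a)
  have h2 : ∀ a : Cfsg.Agent.H121.HexMin.fx σ,
      xG hD4 (chevD4.neg 23) ((Cfsg.Agent.H121.HexMin.fx σ).subtype a) ∈ twistedD4 K q := by
    intro a
    rw [xG_eq]
    exact x0_mem hφ (hfx a)
  refine nc_of_two (φ := sub1 l23 h1 h2) (ψ := B' φ hφ) (fun x y => ?_)
    (sub1_exists hp2 (by rw [hcard]; exact hd) h1 h2 pos23 neg23) (exists_of_ker (kerPM_B' φ hφ) hp2 ?_)
  · apply Subtype.ext
    show ((sub1 l23 h1 h2 x : ↥(twistedD4 K q)) : GL chevD4.Idx K) * ((B' φ hφ y : ↥(twistedD4 K q)) : GL chevD4.Idx K) =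
      ((B' φ hφ y : ↥(twistedD4 K q)) : GL chevD4.Idx K) * ((sub1 l23 h1 h2 x : ↥(twistedD4 K q)) : GL chevD4.Idx K)
    rw [coe_sub1, coe_B', ← Subgroup.coe_mul, ← Subgroup.coe_mul]
    exact congrArg _ (commute_B _ _).eq
  · rw [hK]
    rcases (Nat.Prime.dvd_mul hp.out).1 hd with h | h
    · exact (h.trans (dvd_pow_self q (by norm_num))).mul_right _
    · refine Dvd.dvd.mul_left (h.trans ?_) _
      rw [← pow_mul, show 3 * 2 = 2 * 3 by norm_num, pow_mul]
      simpa using Nat.sub_dvd_pow_sub_pow (q ^ 2) 1 3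

/-! ### `q = 2`, `p = 7` -/

/-- the long `A₂` -/
def rD : Fin 3 → Fin 3 → ℕ := ![![0, 14, 23], ![9, 0, 22], ![0, 1, 0]]

theorem rD_a : RTa chevD4 rD := by decide +kernel
theorem rD_b : RTb chevD4 rD (fun _ _ => 1) := by decide +kernel
theorem rD_c : RTc chevD4 rD := by decide +kernel
theorem rD_d : RTd (fun _ _ => 1 : Fin 3 → Fin 3 → ℤ) := by decide +kernel
theorem rD_cartan : ∀ i j : Fin 3, i ≠ j → chevD4.cartan 0 (rD i j) = chevD4.cartan 2 (rD i j) ∧
    chevD4.cartan 2 (rD i j) = chevD4.cartan 3 (rD i j) := by decide +kernel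
theorem rD_cases : ∀ i j : Fin 3, i ≠ j → rD i j = 14 ∨ rD i j = 23 ∨ rD i j = 9 ∨ rD i j = 22 ∨ rD i j = 0 ∨
    rD i j = 1 := by decide +kernel

theorem rD_mem {q : ℕ} {φ : K →+* K} (hφ : ∀ x, φ x = x ^ q) {v : K} (hv : φ v = v) {i j : Fin 3} (hij : i ≠ j) :
    xG hD4 (rD i j) v ∈ twistedD4 K q := by
  rw [xG_eq]
  rcases rD_cases i j hij with h | h | h | h | h | h <;> rw [h]
  · exact D4Perfect.x14_mem' hφ hv
  · exact x23_mem hφ hv
  · exact x9_mem' hφ hv
  · exact D4Perfect.x22_mem hφ hv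
  · exact x0_mem hφ hv
  · exact x1_mem hφ hv

theorem map_transvection {L K : Type*} [Field L] [Field K] (ι : L →+* K) {i j : Fin 3} (hij : i ≠ j) (a : L) :
    SpecialLinearGroup.map ι (SpecialLinearGroup.transvection hij a) = SpecialLinearGroup.transvection hij (ι a) := by
  apply Subtype.ext
  show ι.mapMatrix (1 + Matrix.single i j a) = 1 + Matrix.single i j (ι a)
  rw [map_add, map_one]
  congr 1
  exact Matrix.map_single i j a ι

theorem exists_pi2 [Finite K] {φ : K →+* K} (hφ : ∀ x, φ x = x ^ 2) (ι : ZMod 2 →+* K) :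
    ∃ π : SpecialLinearGroup (Fin 3) (ZMod 2) →* ↥(twistedD4 K 2), ∀ i j (hij : i ≠ j) a,
      ((π (SpecialLinearGroup.transvection hij a) : ↥(twistedD4 K 2)) : GL chevD4.Idx K) = xG hD4 (rD i j) (ι a) := by
  obtain ⟨π, hπ⟩ := exists_pi (F := K) hD4 rD_a rD_b rD_c rD_d
  have hφι : ∀ a, φ (ι a) = ι a := fun a => RingHom.congr_fun (Subsingleton.elim (φ.comp ι) ι) a
  have hval : ∀ i j (hij : i ≠ j) a, (((π (SpecialLinearGroup.map ι (SpecialLinearGroup.transvection hij a))) :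
      ↥(chevD4.group K)) : GL chevD4.Idx K) = xG hD4 (rD i j) (ι a) := by
    intro i j hij a
    rw [map_transvection, hπ, Int.cast_one, one_mul]
  let f : SpecialLinearGroup (Fin 3) (ZMod 2) →* GL chevD4.Idx K :=
    ((chevD4.group K).subtype.comp π).comp (SpecialLinearGroup.map ι)
  have hmem : ∀ g, f g ∈ twistedD4 K 2 := by
    intro g
    refine Cfsg.Agent.LieClassical.SLGen.transvection_induction (fun g => f g ∈ twistedD4 K 2) ?_ ?_ g
    · intro i j hij c
      show (((π (SpecialLinearGroup.map ι (SpecialLinearGroup.transvection hij c))) :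
        ↥(chevD4.group K)) : GL chevD4.Idx K) ∈ _
      rw [hval]
      exact rD_mem hφ (hφι c) hij
    · intro A B hA hB
      rw [map_mul]
      exact mul_mem hA hB
  exact ⟨f.codRestrict (twistedD4 K 2) hmem, hval⟩

/-- **`³D₄(2)`, `p = 7`** -/
theorem nc_seven [Fintype K] (hK : Fintype.card K = 2 ^ 3) : NC 7 ↥(twistedD4 K 2) := by
  classical
  have h7 : Fact (Nat.Prime 7) := ⟨by norm_num⟩
  obtain ⟨φ, hφ⟩ := Cfsg.Agent.ChevalleyStructure.D4Fixed.exists_frob (K := K) (q := 2) (Nat.Prime.isPrimePow Nat.prime_two) hK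
  have h8 : Nat.card K = 8 := by rw [Nat.card_eq_fintype_card, hK]; norm_num
  have hK2 := h2_of h8
  have : CharP K 2 := by
    have : Fact (Nat.Prime 2) := ⟨Nat.prime_two⟩
    exact CharTwo.of_one_ne_zero_of_two_eq_zero one_ne_zero hK2
  obtain ⟨π, hπ⟩ := exists_pi2 hφ (ZMod.castHom (dvd_refl 2) K)
  obtain ⟨x, hx, hxc⟩ : ∃ x, x ^ 7 = 1 ∧ x ∉ cc π := by
    refine exists_three (by norm_num) (by rw [ZMod.card]; norm_num) ?_
    have h01 : (0 : Fin 3) ≠ 1 := by decide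
    have h12 : (1 : Fin 3) ≠ 2 := by decide
    have h02 : (0 : Fin 3) ≠ 2 := by decide
    by_contra hcon
    push Not at hcon
    have h1 := hcon (SpecialLinearGroup.transvection h01 1) (SpecialLinearGroup.transvection h12 1)
    rw [← map_mul, ← map_mul] at h1
    have h2 : SpecialLinearGroup.transvection h01 (1 : ZMod 2) * SpecialLinearGroup.transvection h12 1 =
        SpecialLinearGroup.transvection h02 1 *
          (SpecialLinearGroup.transvection h12 1 * SpecialLinearGroup.transvection h01 1) := by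
      apply Subtype.ext
      show (1 + Matrix.single 0 1 (1 : ZMod 2)) * (1 + Matrix.single 1 2 1) =
        (1 + Matrix.single 0 2 1) * ((1 + Matrix.single 1 2 1) * (1 + Matrix.single 0 1 1))
      decide +kernel
    rw [h2, map_mul] at h1
    have h3 := congrArg Subtype.val (mul_eq_right.1 h1)
    rw [hπ, map_one] at h3
    exact one_ne_zero ((xG_eq_one_iff hD4 (rD_a _ _ h02) _).1 h3)
  obtain ⟨c, hc7⟩ := exists_dg_order (K := K) (n := 7) (by rw [h8])
  have hd7 : orderOf (dg c) = 7 := by rw [orderOf_injective _ dg_injective, hc7]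
  have hz : orderOf (B' φ hφ (dg c)) = 7 := by
    rw [(kerPM_B' φ hφ).orderOf_eq _ (by rw [hd7]; decide), hd7]
  have hu7 : (c : K) ^ 7 = 1 := by
    have := pow_orderOf_eq_one c
    rw [hc7] at this
    have h := congrArg Units.val this
    rwa [Units.val_pow_eq_pow_val, Units.val_one] at h
  have hcomm : ∀ g, Commute (B' φ hφ (dg c)) (π g) := by
    intro g
    refine Cfsg.Agent.LieClassical.SLGen.transvection_induction (fun g => Commute (B' φ hφ (dg c)) (π g)) ?_ ?_ g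
    · intro i j hij a
      apply Subtype.ext
      show ((B' φ hφ (dg c) : ↥(twistedD4 K 2)) : GL chevD4.Idx K) *
        ((π (SpecialLinearGroup.transvection hij a) : ↥(twistedD4 K 2)) : GL chevD4.Idx K) =
        ((π (SpecialLinearGroup.transvection hij a) : ↥(twistedD4 K 2)) : GL chevD4.Idx K) *
        ((B' φ hφ (dg c) : ↥(twistedD4 K 2)) : GL chevD4.Idx K)
      rw [hπ, coe_B']
      obtain ⟨e1, e2⟩ := rD_cartan i j hij
      have h1 := torus_conj (K := K) c.ne_zero (map_ne_zero φ |>.2 c.ne_zero)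
        (map_ne_zero φ |>.2 (map_ne_zero φ |>.2 c.ne_zero)) (rD_a i j hij) (ZMod.castHom (dvd_refl 2) K a)
      rw [← coe_B_dg, e1, e2, ← mul_assoc, ← mul_assoc, ← mul_zpow, ← mul_zpow] at h1
      have h5 : (c : K) * φ c * φ (φ c) = 1 := by
        rw [hφ, hφ, ← hu7]; ring
      rw [h5, _root_.one_zpow, one_mul] at h1
      exact mul_inv_eq_iff_eq_mul.1 h1
    · intro A B hA hB
      rw [map_mul]
      exact hA.mul_right hB
  refine nc_of_pair hz (b := π x) (by rw [← map_pow, hx, map_one]) (hcomm x).eq ?_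
  rintro ⟨i, hi⟩
  apply hxc
  intro g
  have hi' : B' φ hφ (dg c) ^ i = π x := hi
  rw [← hi']
  exact ((hcomm g).zpow_left i).eq

/-! ### The row -/

theorem arith {q : ℕ} (hq : 3 ≤ q) : (q ^ 2 + q + 1) ^ 2 ≤ (q ^ 2 - 1) * q ^ 3 + (q - 1) + 2 := by
  obtain ⟨k, rfl⟩ := Nat.exists_eq_add_of_le hq
  have e : (3 + k) ^ 2 - 1 = 8 + 6 * k + k ^ 2 := by
    have : (3 + k) ^ 2 = 8 + 6 * k + k ^ 2 + 1 := by ring
    omega
  have e2 : 3 + k - 1 = 2 + k := by omega
  rw [e, e2]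
  nlinarith [sq_nonneg k, Nat.zero_le (k ^ 3), Nat.zero_le (k ^ 4), Nat.zero_le (k ^ 5)]

theorem cube_sub' {x : ℕ} (hx : 1 ≤ x) : x ^ 3 - 1 = (x - 1) * (x ^ 2 + x + 1) := by
  obtain ⟨k, rfl⟩ : ∃ k, x = k + 1 := ⟨x - 1, by omega⟩
  have : (k + 1) ^ 3 = k * ((k + 1) ^ 2 + (k + 1) + 1) + 1 := by ring
  rw [this, Nat.add_sub_cancel, Nat.add_sub_cancel]

theorem cube_add' {x : ℕ} (hx : 1 ≤ x) : x ^ 3 + 1 = (x + 1) * (x ^ 2 - x + 1) := by
  obtain ⟨k, rfl⟩ : ∃ k, x = k + 1 := ⟨x - 1, by omega⟩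
  have : (k + 1) ^ 2 = k * (k + 1) + (k + 1) := by ring
  rw [this, Nat.add_sub_cancel]
  ring

theorem sq_sub' {x : ℕ} (hx : 1 ≤ x) : x ^ 2 - 1 = (x - 1) * (x + 1) := by
  obtain ⟨k, rfl⟩ : ∃ k, x = k + 1 := ⟨x - 1, by omega⟩
  have : (k + 1) ^ 2 = k * (k + 1 + 1) + 1 := by ring
  rw [this, Nat.add_sub_cancel, Nat.add_sub_cancel]

/-- the `p`-part -/
theorem ppart [Fintype K] {q : ℕ} (hq : IsPrimePow q) (hK : Fintype.card K = q ^ 3) {p : ℕ} (hp : p.Prime)
    (hp2 : p ≠ 2) (h : ¬ p ∣ q * (q ^ 2 - 1)) {a : ℕ} (ha : p ^ a ∣ Nat.card ↥(twistedD4 K q)) :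
    p ^ a ≤ (q ^ 2 + q + 1) ^ 2 ∧ (orderOf ((q : ℕ) : ZMod p) ≠ 3 → p ^ a ≤ (q ^ 2 + 1) ^ 2) := by
  have hq2 := hq.one_lt
  have hq1 : 1 ≤ q := by omega
  obtain ⟨hpq, he3⟩ := three_le hp hq1 h
  have hp5 := five_le hp hp2 hq1 h
  have hnot : ∀ d, ¬ orderOf ((q : ℕ) : ZMod p) ∣ d → ¬ p ∣ q ^ d - 1 :=
    fun d h1 h2 => h1 ((dvd_iff hq1 d).1 h2)
  have h1 : p ^ a ∣ 1 * (([2, 6, 12] : List ℕ).map fun d => q ^ d - 1).prod := by
    rw [one_mul]
    refine dvd_prod hp (m := 12) (c := q ^ 4 - 1) hpq ?_ ha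
    rw [Cfsg.Agent.S1067.result hq hK]
    simp only [List.map_cons, List.map_nil, List.prod_cons, List.prod_nil]
    have e : q ^ 12 - 1 = (q ^ 4 - 1) * (q ^ 8 + q ^ 4 + 1) := by
      have := cube_sub' (x := q ^ 4) (Nat.one_le_pow _ _ hq1)
      rw [← pow_mul, ← pow_mul] at this
      exact this
    rw [e]
    ring
  have h2 := fold (q := q) hp hq1 _ _ (fun d hd hed => by
    have hd12 : d ≤ 12 ∧ d ≠ 0 := by
      simp only [List.mem_cons, List.not_mem_nil, or_false] at hd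
      omega
    have h4 : d / orderOf ((q : ℕ) : ZMod p) ≤ 4 := by
      calc d / orderOf ((q : ℕ) : ZMod p) ≤ d / 3 := Nat.div_le_div_left he3 (by norm_num)
        _ ≤ 12 / 3 := Nat.div_le_div_right hd12.1
        _ = 4 := by norm_num
    have h5 : 0 < d / orderOf ((q : ℕ) : ZMod p) :=
      Nat.div_pos (Nat.le_of_dvd (Nat.pos_of_ne_zero hd12.2) hed) (by omega)
    intro h6
    have := Nat.le_of_dvd h5 h6
    omega) h1
  have hx1 : 1 ≤ q ^ 2 := Nat.one_le_pow _ _ hq1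
  have hle1 : q ^ 2 - q + 1 ≤ q ^ 2 + 1 := by omega
  have hle2 : (q ^ 2 + 1) ^ 2 ≤ (q ^ 2 + q + 1) ^ 2 := Nat.pow_le_pow_left (by omega) _
  by_cases h3 : orderOf ((q : ℕ) : ZMod p) = 3
  · refine ⟨?_, fun h => absurd h3 h⟩
    rw [h3, cube_sub' hq1] at h2
    have h7 := step_pow hp (fun h => by
      have := hnot 1 (by rw [h3]; norm_num)
      rw [pow_one] at this
      exact this h) h2
    have h9 : (([2, 6, 12] : List ℕ).countP fun d => decide (3 ∣ d)) = 2 := by decide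
    rw [one_mul, h9] at h7
    exact Nat.le_of_dvd (by positivity) h7
  · have hfin : p ^ a ≤ (q ^ 2 + 1) ^ 2 := by
      by_cases h6 : orderOf ((q : ℕ) : ZMod p) = 6
      · rw [h6] at h2
        have h5 := half (f := 3) hp hq1 (by norm_num) h6 h2
        rw [cube_add' hq1] at h5
        have h7 := step_pow hp (fun h => by
          have h8 : p ∣ q ^ 2 - 1 := by
            rw [sq_sub' hq1]
            exact h.mul_left _
          exact hnot 2 (by rw [h6]; norm_num) h8) h5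
        have h9 : (([2, 6, 12] : List ℕ).countP fun d => decide (6 ∣ d)) = 2 := by decide
        rw [one_mul, h9] at h7
        exact (Nat.le_of_dvd (by positivity) h7).trans (Nat.pow_le_pow_left hle1 _)
      by_cases h4 : orderOf ((q : ℕ) : ZMod p) = 4
      · rw [h4] at h2
        have h5 := half (f := 2) hp hq1 (by norm_num) h4 h2
        have h9 : (([2, 6, 12] : List ℕ).countP fun d => decide (4 ∣ d)) = 1 := by decide
        rw [one_mul, h9, pow_one] at h5
        refine (Nat.le_of_dvd (by positivity) h5).trans ?_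
        nlinarith
      by_cases h12 : orderOf ((q : ℕ) : ZMod p) = 12
      · rw [h12] at h2
        have h5 := half (f := 6) hp hq1 (by norm_num) h12 h2
        have h9 : (([2, 6, 12] : List ℕ).countP fun d => decide (12 ∣ d)) = 1 := by decide
        have e : q ^ 6 + 1 = (q ^ 2 + 1) * ((q ^ 2) ^ 2 - q ^ 2 + 1) := by
          rw [← cube_add' hx1]
          ring
        rw [h9, e] at h5
        have h7 := step_pow hp (fun h => by
          have h8 : p ∣ q ^ 4 - 1 := by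
            have e : q ^ 4 - 1 = (q ^ 2 - 1) * (q ^ 2 + 1) := by
              have := sq_sub' hx1
              rw [← pow_mul] at this
              exact this
            rw [e]
            exact h.mul_left _
          exact hnot 4 (by rw [h12]; norm_num) h8) h5
        rw [one_mul, pow_one] at h7
        refine (Nat.le_of_dvd (by positivity) h7).trans ?_
        have : (q ^ 2) ^ 2 - q ^ 2 + 1 ≤ (q ^ 2) ^ 2 + 1 := by omega
        nlinarith
      · have hz : (([2, 6, 12] : List ℕ).countP fun d => decide (orderOf ((q : ℕ) : ZMod p) ∣ d)) = 0 := by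
          rw [List.countP_eq_zero]
          intro d hd
          simp only [decide_eq_true_eq]
          intro hed
          simp only [List.mem_cons, List.not_mem_nil, or_false] at hd
          have hle := Nat.le_of_dvd (by omega) hed
          have hle2 : orderOf ((q : ℕ) : ZMod p) ≤ 12 := by omega
          generalize orderOf ((q : ℕ) : ZMod p) = e at *
          interval_cases e <;> omega
        rw [hz, pow_zero, one_mul] at h2
        refine (Nat.le_of_dvd one_pos h2).trans ?_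
        exact Nat.one_le_pow _ _ (by omega)
    exact ⟨hfin.trans hle2, fun _ => hfin⟩

/-- **The row of `³D₄(q)`.** -/
theorem row' [Fintype K] {q : ℕ} (hq : IsPrimePow q) (hK : Fintype.card K = q ^ 3) {p : ℕ} [hp : Fact p.Prime]
    (hp2 : p ≠ 2) : Row p ↥(twistedD4 K q) := by
  have hfin : Finite ↥(twistedD4 K q) := inferInstance
  have hq2 := hq.one_lt
  have hq1 : 1 ≤ q := by omega
  refine row_of (q := q) (minDeg hq hK) (nc_q hq hK hp2) (fun h => ?_)
  rcases Nat.lt_or_ge 2 q with hq3 | hq3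
  · right
    intro a ha
    exact (ppart hq hK hp.out hp2 h ha).1.trans (arith hq3)
  · have hq2' : q = 2 := by omega
    subst hq2'
    by_cases h3 : orderOf (((2 : ℕ) : ℕ) : ZMod p) = 3
    · left
      have h7 : p = 7 := by
        have h4 : p ∣ 2 ^ 3 - 1 := (dvd_iff hq1 3).2 (by rw [h3])
        exact (Nat.prime_dvd_prime_iff_eq hp.out (by norm_num)).1 (by simpa using h4)
      subst h7
      exact nc_seven hK
    · right
      intro a ha
      exact ((ppart hq hK hp.out hp2 h ha).2 h3).trans (by norm_num)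

end TriD4

theorem row_td4 {p : ℕ} [Fact p.Prime] {G : Type*} [Group G] (hp2 : p ≠ 2) (h : Cfsg.Lie.Iso3D4 G) : Row p G := by
  obtain ⟨K, _, _, q, hq, hK, ⟨e⟩⟩ := h
  exact (TriD4.row' hq hK hp2).congr e.symm

end Cfsg.Agent.H120.CycExc
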