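import Cfsg.Agent.H120.Cyc.Rows
import Cfsg.Agent.H120.Cyc.Sub
import Cfsg.Agent.ChevalleyStructure.TwE6BN
import Cfsg.Agent.H121.E6Inst
import Cfsg.Agent.H121.F4Min
import Cfsg.Agent.S1066
import Cfsg.Agent.S1070

/-!
# Cyclic Sylow subgroups and degrees: `²E₆(q)`
-/

set_option autoImplicit false
set_option linter.unusedSectionVars false

namespace Cfsg.Agent.H120.CycExc

open Matrix Module Cfsg.Lie Cfsg.Agent.ChevalleyStructure Cfsg.Agent.ChevalleyStructure.Elts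
  Cfsg.Agent.H92.ExcSL2
  Cfsg.Agent.H122 Cfsg.Agent.H121.Cyc Cfsg.Agent.H123.SpNC Cfsg.Agent.H120.CycExc.Num

namespace TwoE6

universe u

variable {K : Type u} [Field K]

/-- the minimal degree -/
theorem minDeg [Fintype K] {q : ℕ} (hq : IsPrimePow q) (hK : Fintype.card K = q ^ 2) :
    MinDeg ↥(twistedE6 K q) (q * (q ^ 6 - q ^ 3 + 1) * (q ^ 4 + 1) - 2) := by
  intro M _ _ _ ρ hρ
  have hs : IsSimpleGroup ↥(Cfsg.Lie.twistedE6 K q) := (Cfsg.Agent.S1070.result hq hK).1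
  obtain ⟨φ, hφ, hqq⟩ := Cfsg.Agent.ChevalleyStructure.TwE6Basic.exists_frob hq hK
  have hφφ : ∀ t, φ (φ t) = t := fun t => by rw [hφ, hφ, hqq]
  let σ : K ≃+* K := RingEquiv.ofBijective φ (Finite.injective_iff_bijective.1 φ.injective)
  have hσφ : ∀ x, σ x = φ x := fun x => rfl
  have hσ : ∀ x, σ x = x ^ q := fun x => hφ x
  have hinv : Cfsg.Agent.H121.Quad.Inv σ := ⟨fun x => hφφ x⟩
  have hK' : Nat.card K = q ^ 2 := by rw [Nat.card_eq_fintype_card, hK]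
  have hne := Cfsg.Agent.H121.Quad.exists_ne hK' hσ hq.one_lt
  have D := Cfsg.Agent.H121.E6I.f4 hφ hφφ hσφ hne
  have hx : (⟨Cfsg.Agent.H121.E6Eng.W (Cfsg.Agent.H121.E6R.wA (Cfsg.Agent.H121.F4.vx (σ := σ) (0 : Fin 3) 1)),
      Cfsg.Agent.H121.E6M.mem_wA hφ hφφ hσφ _⟩ : Cfsg.Lie.twistedE6 K q) ≠ 1 := by
    intro h1
    have h2 := congrArg Subtype.val h1
    have h3 : Cfsg.Agent.H121.E6Eng.W (Cfsg.Agent.H121.E6R.wA (Cfsg.Agent.H121.F4.vx (σ := σ) (0 : Fin 3) 1)) =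
        Cfsg.Agent.H121.E6Eng.W (Cfsg.Agent.H121.E6R.wA (0 : Cfsg.Agent.H121.Orth.VV (Fin 3) σ)) := by
      have h4 := Cfsg.Agent.H121.E6I.addA (0 : Cfsg.Agent.H121.Orth.VV (Fin 3) σ) 0
      rw [add_zero] at h4
      rw [mul_eq_left.1 h4.symm]
      exact h2
    have h5 := Cfsg.Agent.H121.E6M.injA h3
    have h6 := congrArg (fun a : Cfsg.Agent.H121.Orth.VV (Fin 3) σ => (a.1 0).1) h5
    simp [Cfsg.Agent.H121.F4.vx] at h6
  have hne1 := Cfsg.Agent.H121.Chr.faithful ρ hρ hx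
  have hm := Cfsg.Agent.H121.F4.main ρ D hK' hσ hq.one_lt ⟨_, hne1⟩
  omega

/-! ### `p ∣ q (q² - 1)` -/

theorem hE6 : InList chevE6 := by simp

theorem r1 : chevE6.reflectRoot 4 39 < 72 ∧ chevE6.reflectRoot 2 (chevE6.reflectRoot 4 39) = 44 := by decide +kernel
theorem r2 : chevE6.reflectRoot 4 32 < 72 ∧ chevE6.reflectRoot 2 (chevE6.reflectRoot 4 32) = 27 := by decide +kernel
theorem n39 : chevE6.neg 39 = 32 := by decide +kernel
theorem n44 : chevE6.neg 44 = 27 := by decide +kernel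
theorem pos39 : chevE6.IsPosRoot 39 := by decide +kernel
theorem neg39 : chevE6.IsNegRoot (chevE6.neg 39) := by decide +kernel
theorem pos44 : chevE6.IsPosRoot 44 := by decide +kernel
theorem neg44 : chevE6.IsNegRoot (chevE6.neg 44) := by decide +kernel
theorem orth : Orth4 chevE6 39 44 = true := by decide +kernel

theorem nE_conj' {j : ℕ} (hj : j < 6) {s : ℕ} (hs : s < 72) : ∃ η : K, (η = 1 ∨ η = -1) ∧ ∀ t : K,
    TwE6Basic.nE (chevE6.simple j) * xG hE6 s t * (TwE6Basic.nE (chevE6.simple j))⁻¹ =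
      xG hE6 (chevE6.reflectRoot j s) (η * t) := by
  obtain ⟨η, hη, h⟩ := Cfsg.Agent.S1031.result (F := K) chevE6 hE6 j s hj hs
  refine ⟨(η : K), ?_, fun t => ?_⟩
  · rcases hη with rfl | rfl <;> simp
  · rw [mul_inv_eq_iff_eq_mul]
    apply Units.ext
    rw [Units.val_mul, Units.val_mul, coe_nG, coe_xG, coe_xG]
    exact h t

/-- conjugation by `n₂` -/
theorem n2_conj {s k : ℕ} (hs : s < 72) (h : chevE6.reflectRoot 4 s < 72 ∧
    chevE6.reflectRoot 2 (chevE6.reflectRoot 4 s) = k) : ∃ η : K, (η = 1 ∨ η = -1) ∧ ∀ t : K,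
    TwE6Basic.n (K := K) 2 * xG hE6 s t * (TwE6Basic.n (K := K) 2)⁻¹ = xG hE6 k (η * t) := by
  obtain ⟨a, ha, h1⟩ := nE_conj' (K := K) (j := 4) (by norm_num) hs
  obtain ⟨b, hb, h2⟩ := nE_conj' (K := K) (j := 2) (by norm_num) h.1
  refine ⟨b * a, ?_, fun t => ?_⟩
  · rcases ha with rfl | rfl <;> rcases hb with rfl | rfl <;> simp
  · have e : TwE6Basic.n (K := K) 2 = TwE6Basic.nE (chevE6.simple 2) * TwE6Basic.nE (chevE6.simple 4) := by
      rw [TwE6Basic.n_def]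
      simp [TwE6Basic.J]
    have e2 : TwE6Basic.n (K := K) 2 * xG hE6 s t * (TwE6Basic.n (K := K) 2)⁻¹ =
        TwE6Basic.nE (chevE6.simple 2) * (TwE6Basic.nE (chevE6.simple 4) * xG hE6 s t *
          (TwE6Basic.nE (chevE6.simple 4))⁻¹) * (TwE6Basic.nE (chevE6.simple 2))⁻¹ := by
      rw [e]
      group
    rw [e2, h1, h2, h.2, mul_assoc]

theorem sgn_pow {q : ℕ} {φ : K →+* K} (hφ : ∀ x, φ x = x ^ q) {η v : K} (hη : η = 1 ∨ η = -1) (hv : v ^ q = v) :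
    (η * v) ^ q = η * v ∧ η * (η * v) = v := by
  rw [← hφ] at hv
  rw [← hφ]
  rcases hη with rfl | rfl
  · simp [hv]
  · simp [hv]

theorem mem39 {q : ℕ} {v : K} (hv : v ^ q = v) : xG hE6 39 v ∈ twistedE6 K q :=
  TwE6Basic.single_mem hv (by simp)
theorem mem32 {q : ℕ} {v : K} (hv : v ^ q = v) : xG hE6 32 v ∈ twistedE6 K q :=
  TwE6Basic.single_mem hv (by simp)

theorem mem44 {q : ℕ} {φ : K →+* K} (hφ : ∀ x, φ x = x ^ q) {v : K} (hv : v ^ q = v) : xG hE6 44 v ∈ twistedE6 K q := by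
  obtain ⟨η, hη, h⟩ := n2_conj (K := K) (s := 39) (by norm_num) r1
  obtain ⟨h1, h2⟩ := sgn_pow hφ hη hv
  have hn := TwE6BN.n_mem_G (K := K) φ hφ 2
  have h3 := mul_mem (mul_mem hn (mem39 h1)) (inv_mem hn)
  rwa [h, h2] at h3

theorem mem27 {q : ℕ} {φ : K →+* K} (hφ : ∀ x, φ x = x ^ q) {v : K} (hv : v ^ q = v) : xG hE6 27 v ∈ twistedE6 K q := by
  obtain ⟨η, hη, h⟩ := n2_conj (K := K) (s := 32) (by norm_num) r2
  obtain ⟨h1, h2⟩ := sgn_pow hφ hη hv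
  have hn := TwE6BN.n_mem_G (K := K) φ hφ 2
  have h3 := mul_mem (mul_mem hn (mem32 h1)) (inv_mem hn)
  rwa [h, h2] at h3

/-- **`p ∣ q (q² - 1)`** -/
theorem nc_q [Fintype K] {q : ℕ} (hq : IsPrimePow q) (hK : Fintype.card K = q ^ 2) {p : ℕ} [hp : Fact p.Prime]
    (hp2 : p ≠ 2) (hd : p ∣ q * (q ^ 2 - 1)) : NC p ↥(twistedE6 K q) := by
  have hfin : Finite ↥(twistedE6 K q) := inferInstance
  obtain ⟨φ, hφ, hqq⟩ := Cfsg.Agent.ChevalleyStructure.TwE6Basic.exists_frob hq hK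
  let σ : K ≃+* K := RingEquiv.ofBijective φ (Finite.injective_iff_bijective.1 φ.injective)
  have hσ : ∀ x, σ x = x ^ q := fun x => hφ x
  have hK' : Nat.card K = q ^ 2 := by rw [Nat.card_eq_fintype_card, hK]
  have hfx : ∀ a : Cfsg.Agent.H121.HexMin.fx σ, ((Cfsg.Agent.H121.HexMin.fx σ).subtype a) ^ q =
      (Cfsg.Agent.H121.HexMin.fx σ).subtype a := fun a => by
    rw [← hσ]
    exact a.2
  have : Fintype (Cfsg.Agent.H121.HexMin.fx σ) := Fintype.ofFinite _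
  have hcard : Fintype.card (Cfsg.Agent.H121.HexMin.fx σ) = q := by
    rw [← Nat.card_eq_fintype_card]
    exact Cfsg.Agent.H121.Quad.card_fx hK' hσ hq.one_lt
  refine nc_sub (L := Cfsg.Agent.H121.HexMin.fx σ) (ι := (Cfsg.Agent.H121.HexMin.fx σ).subtype) (hD := hE6) hp2
    (by rw [hcard]; exact hd) pos39 neg39 pos44 neg44 orth (fun a => mem39 (hfx a)) (fun a => ?_)
    (fun a => mem44 hφ (hfx a)) (fun a => ?_)
  · rw [n39]
    exact mem32 (hfx a)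
  · rw [n44]
    exact mem27 hφ (hfx a)

/-! ### The row -/

theorem mul_pred_dvd {q : ℕ} (hq : 1 ≤ q) (n : ℕ) : (q ^ n - 1) * (q ^ n + 1) = q ^ (2 * n) - 1 := by
  obtain ⟨x, hx⟩ : ∃ x, q ^ n = x + 1 := ⟨q ^ n - 1, by have := Nat.one_le_pow n q hq; omega⟩
  rw [two_mul, pow_add, hx, Nat.add_sub_cancel]
  have : (x + 1) * (x + 1) = x * (x + 1 + 1) + 1 := by ring
  rw [this, Nat.add_sub_cancel]

theorem bound_N {q : ℕ} (hq : 2 ≤ q) : q ^ 10 ≤ q * (q ^ 6 - q ^ 3 + 1) * (q ^ 4 + 1) := by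
  have h1 : q ^ 5 ≤ q ^ 6 - q ^ 3 + 1 := by
    have h2 : q ^ 5 * 2 ≤ q ^ 6 := by
      rw [pow_succ q 5]
      exact Nat.mul_le_mul_left _ hq
    have h3 : q ^ 3 ≤ q ^ 5 := Nat.pow_le_pow_right (by omega) (by norm_num)
    omega
  calc q ^ 10 = q * q ^ 5 * q ^ 4 := by ring
    _ ≤ q * (q ^ 6 - q ^ 3 + 1) * (q ^ 4 + 1) := Nat.mul_le_mul (Nat.mul_le_mul_left _ h1) (Nat.le_succ _)

theorem cube_le {q : ℕ} (hq : 2 ≤ q) : (q ^ 3 + 1) ^ 3 ≤ q ^ 10 := by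
  obtain ⟨k, rfl⟩ := Nat.exists_eq_add_of_le hq
  have h8 : 8 ≤ (2 + k) ^ 3 := by
    calc 8 = 2 ^ 3 := by norm_num
      _ ≤ (2 + k) ^ 3 := Nat.pow_le_pow_left (by omega) 3
  have e : (2 + k) ^ 10 = ((2 + k) ^ 3) ^ 3 * (2 + k) := by ring
  rw [e]
  generalize (2 + k) ^ 3 = x at *
  have h1 : (x + 1) ^ 3 ≤ x ^ 3 * 2 := by
    nlinarith [sq_nonneg x]
  exact h1.trans (Nat.mul_le_mul_left _ (by omega))

/-- **The row of `²E₆(q)`.** -/
theorem row' [Fintype K] {q : ℕ} (hq : IsPrimePow q) (hK : Fintype.card K = q ^ 2) {p : ℕ} [hp : Fact p.Prime]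
    (hp2 : p ≠ 2) : Row p ↥(twistedE6 K q) := by
  have hfin : Finite ↥(twistedE6 K q) := inferInstance
  have hq2 := hq.one_lt
  have hq1 : 1 ≤ q := by omega
  refine row_of (q := q) (minDeg hq hK) (nc_q hq hK hp2) (fun h => Or.inr ?_)
  intro a ha
  have hb := bound_N hq2
  suffices hs : p ^ a ≤ q ^ 10 by omega
  obtain ⟨hpq, he3⟩ := three_le hp.out hq1 h
  have hp5 := five_le hp.out hp2 hq1 h
  have h1 : p ^ a ∣ (([2, 6, 8, 10, 12, 18] : List ℕ).map fun d => q ^ d - 1).prod := by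
    refine dvd_prod hp.out (m := 36) (c := Nat.gcd 3 (q + 1) * ((q ^ 5 - 1) * (q ^ 9 - 1))) hpq ?_ ha
    rw [mul_right_comm, Cfsg.Agent.S1066.result hq hK]
    simp only [List.map_cons, List.map_nil, List.prod_cons, List.prod_nil]
    rw [show (10 : ℕ) = 2 * 5 by norm_num, show (18 : ℕ) = 2 * 9 by norm_num, ← mul_pred_dvd hq1 5,
      ← mul_pred_dvd hq1 9]
    ring
  by_cases he6 : orderOf ((q : ℕ) : ZMod p) = 6
  · have h2 := fold (q := q) hp.out hq1 ([2, 6, 8, 10, 12, 18] : List ℕ) 1 (fun d hd hed => by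
      rw [he6] at hed ⊢
      have hd' : d / 6 = 1 ∨ d / 6 = 2 ∨ d / 6 = 3 := by
        simp only [List.mem_cons, List.not_mem_nil, or_false] at hd
        omega
      intro h4
      have := Nat.le_of_dvd (by omega) h4
      omega) (by rwa [one_mul])
    rw [he6] at h2
    have h4 : (([2, 6, 8, 10, 12, 18] : List ℕ).countP fun d => decide (6 ∣ d)) = 3 := by decide
    rw [h4] at h2
    have h5 := half (f := 3) hp.out hq1 (by norm_num) he6 h2
    rw [one_mul] at h5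
    exact (Nat.le_of_dvd (by positivity) h5).trans (cube_le hq2)
  · have hall : ∀ e ≤ 18, 3 ≤ e → e ≠ 6 → chk [2, 6, 8, 10, 12, 18] 10 e = true := by decide
    exact bound_all hp.out hp5 hpq hq2 he3 (N := 18) (by decide) (fun h => hall _ h he3 he6) h1

end TwoE6

theorem row_te6 {p : ℕ} [Fact p.Prime] {G : Type*} [Group G] (hp2 : p ≠ 2) (h : Cfsg.Lie.Iso2E6 G) : Row p G := by
  obtain ⟨K, _, _, q, hq, hK, ⟨e⟩⟩ := h
  exact (TwoE6.row' hq hK hp2).congr e.symm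

end Cfsg.Agent.H120.CycExc
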